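import Mathlib
import Cfsg.Prelude.Def_KGroupFacts
import Cfsg.Agent.Lib.Zsigmondy
import Cfsg.Agent.Prune
set_option linter.all false

section
prune_inst 0x7f00000000000000000000000000000000000000000000000000000000000000000000000000000000000000000000000000000000000000000000000000000000000000000000000000000000000000003fffffffffffffffffffffffffffbeffbdffffffff

-- part: H163/PG/Base
section
set_option linter.all false
open scoped Cfsg.Agent.FastGrp

/-!
# Prime graphs of almost simple groups: base file for S2529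

`Adj G p q`: `G` has an element of order `p * q`. `Has3 G`: three pairwise non-adjacent prime divisors.
`Cov G`: the prime divisors of `G` are covered by two cliques (the complement graph is bipartite).
`Goal S`: each almost simple group with socle `S` satisfies `Has3` or `Cov`.
`Has3Out S`: three pairwise non-adjacent primes of `S`, prime to the order of `Out S`; this gives `Goal S`.
-/

set_option autoImplicit false

universe u v w

namespace Cfsg.Agent.H163.PG

/-- adjacency in the prime graph (used for distinct primes) -/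
def Adj (G : Type u) [Group G] (p q : ℕ) : Prop := ∃ g : G, orderOf g = p * q

/-- three pairwise non-adjacent primes dividing the order -/
def Has3 (G : Type u) [Group G] : Prop :=
  ∃ p q r : ℕ, p.Prime ∧ q.Prime ∧ r.Prime ∧ p ≠ q ∧ q ≠ r ∧ p ≠ r ∧ p ∣ Nat.card G ∧ q ∣ Nat.card G ∧
    r ∣ Nat.card G ∧ ¬ Adj G p q ∧ ¬ Adj G q r ∧ ¬ Adj G p r

/-- the prime divisors of the order are covered by two cliques -/
def Cov (G : Type u) [Group G] : Prop :=
  ∃ X : ℕ → Prop, ∀ p q : ℕ, p.Prime → q.Prime → p ≠ q → p ∣ Nat.card G → q ∣ Nat.card G →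
    (X p ↔ X q) → Adj G p q

/-- three pairwise non-adjacent primes of `S`, not dividing the order of `Out S` -/
def Has3Out (S : Type u) [Group S] : Prop :=
  ∃ p q r : ℕ, p.Prime ∧ q.Prime ∧ r.Prime ∧ p ≠ q ∧ q ≠ r ∧ p ≠ r ∧ p ∣ Nat.card S ∧ q ∣ Nat.card S ∧
    r ∣ Nat.card S ∧ ¬ Adj S p q ∧ ¬ Adj S q r ∧ ¬ Adj S p r ∧
    ¬ p ∣ Nat.card (Cfsg.Out S) ∧ ¬ q ∣ Nat.card (Cfsg.Out S) ∧ ¬ r ∣ Nat.card (Cfsg.Out S)

/-- the conclusion for all almost simple groups with socle isomorphic to `S` -/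
def Goal.{a, b} (S : Type a) [Group S] : Prop :=
  ∀ (G : Type b) [Group G] [Finite G] (N : Subgroup G) [N.Normal],
    Nonempty (N ≃* S) → Subgroup.centralizer (N : Set G) = ⊥ → Has3 G ∨ Cov G

theorem Adj.symm {G : Type u} [Group G] {p q : ℕ} (h : Adj G p q) : Adj G q p := by
  obtain ⟨g, hg⟩ := h
  exact ⟨g, by rw [hg, mul_comm]⟩

theorem adj_comm {G : Type u} [Group G] {p q : ℕ} : Adj G p q ↔ Adj G q p := ⟨Adj.symm, Adj.symm⟩

theorem Adj.of_injective {G : Type u} {H : Type v} [Group G] [Group H] {p q : ℕ} (f : G →* H)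
    (hf : Function.Injective f) (h : Adj G p q) : Adj H p q := by
  obtain ⟨g, hg⟩ := h
  exact ⟨f g, by rw [orderOf_injective f hf, hg]⟩

theorem adj_congr {G : Type u} {H : Type v} [Group G] [Group H] {p q : ℕ} (e : G ≃* H) :
    Adj G p q ↔ Adj H p q :=
  ⟨Adj.of_injective e.toMonoidHom e.injective, Adj.of_injective e.symm.toMonoidHom e.symm.injective⟩

theorem Adj.of_subgroup {G : Type u} [Group G] {N : Subgroup G} {p q : ℕ} (h : Adj N p q) : Adj G p q :=
  h.of_injective N.subtype N.subtype_injective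

theorem adj_of_commute {G : Type u} [Group G] {p q : ℕ} (hp : p.Prime) (hq : q.Prime) (hpq : p ≠ q)
    {x y : G} (hx : orderOf x = p) (hy : orderOf y = q) (h : x * y = y * x) : Adj G p q := by
  refine ⟨x * y, ?_⟩
  have h1 : Commute x y := h
  rw [h1.orderOf_mul_eq_mul_orderOf_of_coprime, hx, hy]
  rw [hx, hy]
  exact (Nat.coprime_primes hp hq).2 hpq

theorem Adj.exists_commute {G : Type u} [Group G] {p q : ℕ} (hp : p.Prime) (hq : q.Prime)
    (h : Adj G p q) : ∃ x y : G, orderOf x = p ∧ orderOf y = q ∧ x * y = y * x := by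
  obtain ⟨g, hg⟩ := h
  have hpos : 0 < orderOf g := by rw [hg]; exact Nat.mul_pos hp.pos hq.pos
  refine ⟨g ^ q, g ^ p, ?_, ?_, ?_⟩
  · rw [orderOf_pow' g hq.ne_zero, hg, Nat.gcd_eq_right (Dvd.intro_left p rfl), Nat.mul_div_cancel _ hq.pos]
  · rw [orderOf_pow' g hp.ne_zero, hg, Nat.gcd_eq_right (Dvd.intro q rfl), Nat.mul_div_cancel_left _ hp.pos]
  · rw [← pow_add, ← pow_add, add_comm]

/-- an element whose order is a multiple of `p * q` gives adjacency -/
theorem adj_of_dvd {G : Type u} [Group G] {p q : ℕ} {g : G} (hg0 : orderOf g ≠ 0) (h : p * q ∣ orderOf g) :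
    Adj G p q := by
  obtain ⟨k, hk⟩ := h
  have hk0 : k ≠ 0 := by
    rintro rfl
    exact hg0 (by rw [hk, mul_zero])
  refine ⟨g ^ k, ?_⟩
  rw [orderOf_pow' g hk0, hk, Nat.gcd_eq_right (Dvd.intro_left _ rfl), Nat.mul_div_cancel _ (Nat.pos_of_ne_zero hk0)]

section almost

variable {G : Type u} [Group G] {S : Type v} [Group S] (N : Subgroup G) [N.Normal] (e : N ≃* S)

/-- the action on the socle -/
noncomputable def toAut : G →* MulAut S :=
  (MulAut.congr e).toMonoidHom.comp (MulAut.conjNormal (H := N))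

/-- the map to the outer automorphism group of the socle -/
noncomputable def toOut : G →* Cfsg.Out S := (QuotientGroup.mk' (Cfsg.Inn S)).comp (toAut N e)

theorem toAut_apply (g : G) (n : N) : toAut N e g (e n) = e ⟨g * n * g⁻¹, (‹N.Normal›).conj_mem n n.2 g⟩ := by
  show e (MulAut.conjNormal g (e.symm (e n))) = _
  rw [e.symm_apply_apply]
  congr 1

theorem toAut_injective (hC : Subgroup.centralizer (N : Set G) = ⊥) : Function.Injective (toAut N e) := by
  rw [injective_iff_map_eq_one]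
  intro g hg
  have h1 : g ∈ Subgroup.centralizer (N : Set G) := by
    rw [Subgroup.mem_centralizer_iff]
    intro n hn
    have h2 := toAut_apply N e g ⟨n, hn⟩
    rw [hg, MulAut.one_apply] at h2
    have h3 := congrArg Subtype.val (e.injective h2)
    have h4 : n = g * n * g⁻¹ := h3
    exact (eq_mul_inv_iff_mul_eq.1 h4)
  rw [hC] at h1
  exact Subgroup.mem_bot.1 h1

theorem ker_toOut (hC : Subgroup.centralizer (N : Set G) = ⊥) : (toOut N e).ker = N := by
  ext g
  constructor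
  · intro hg
    have h1 : toAut N e g ∈ Cfsg.Inn S := by
      rw [← QuotientGroup.eq_one_iff]
      exact hg
    obtain ⟨s, hs⟩ := h1
    obtain ⟨n, rfl⟩ := e.surjective s
    have h2 : toAut N e g = toAut N e (n : G) := by
      rw [← hs]
      ext t
      obtain ⟨k, rfl⟩ := e.surjective t
      rw [toAut_apply]
      show e n * e k * (e n)⁻¹ = _
      rw [← map_inv, ← map_mul, ← map_mul]
      congr 1
    rw [toAut_injective N e hC h2]
    exact n.2
  · intro hg
    show (QuotientGroup.mk (toAut N e g) : Cfsg.Out S) = 1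
    rw [QuotientGroup.eq_one_iff]
    refine ⟨e ⟨g, hg⟩, ?_⟩
    ext t
    obtain ⟨k, rfl⟩ := e.surjective t
    rw [toAut_apply]
    show e ⟨g, hg⟩ * e k * (e ⟨g, hg⟩)⁻¹ = _
    rw [← map_inv, ← map_mul, ← map_mul]
    congr 1

include e in
/-- elements of order prime to `|Out S|` lie in the socle -/
theorem mem_of_coprime (hC : Subgroup.centralizer (N : Set G) = ⊥) {g : G}
    (hg : (orderOf g).Coprime (Nat.card (Cfsg.Out S))) : g ∈ N := by
  rw [← ker_toOut N e hC, MonoidHom.mem_ker]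
  have h1 : (toOut N e g) ^ (orderOf g) = 1 := by rw [← map_pow, pow_orderOf_eq_one, map_one]
  have h2 : (toOut N e g) ^ (Nat.card (Cfsg.Out S)) = 1 := pow_card_eq_one'
  have h3 : orderOf (toOut N e g) ∣ 1 := by
    rw [← hg]
    exact Nat.dvd_gcd (orderOf_dvd_of_pow_eq_one h1) (orderOf_dvd_of_pow_eq_one h2)
  exact orderOf_eq_one_iff.1 (Nat.dvd_one.1 h3)

include e in
theorem adj_iff_of_not_dvd (hC : Subgroup.centralizer (N : Set G) = ⊥) {p q : ℕ} (hp : p.Prime) (hq : q.Prime)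
    (hp' : ¬ p ∣ Nat.card (Cfsg.Out S)) (hq' : ¬ q ∣ Nat.card (Cfsg.Out S)) : Adj G p q ↔ Adj S p q := by
  constructor
  · rintro ⟨g, hg⟩
    have hgN : g ∈ N := by
      apply mem_of_coprime N e hC
      rw [hg]
      exact Nat.Coprime.mul_left ((Nat.Prime.coprime_iff_not_dvd hp).2 hp') ((Nat.Prime.coprime_iff_not_dvd hq).2 hq')
    refine ⟨e ⟨g, hgN⟩, ?_⟩
    rw [MulEquiv.orderOf_eq, ← hg, Subgroup.orderOf_mk]
  · intro h
    exact (Adj.of_subgroup (N := N) ((adj_congr e).2 h))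

end almost

theorem card_dvd_of_equiv {G : Type u} [Group G] {S : Type v} [Group S] (N : Subgroup G) (e : N ≃* S) :
    Nat.card S ∣ Nat.card G := by
  rw [← Nat.card_congr e.toEquiv]
  exact Subgroup.card_subgroup_dvd_card N

theorem Has3Out.has3 {G : Type u} [Group G] {S : Type v} [Group S] (h : Has3Out S) (N : Subgroup G) [N.Normal]
    (e : N ≃* S) (hC : Subgroup.centralizer (N : Set G) = ⊥) : Has3 G := by
  obtain ⟨p, q, r, hp, hq, hr, hpq, hqr, hpr, hpS, hqS, hrS, h1, h2, h3, op, oq, or'⟩ := h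
  have hd := card_dvd_of_equiv N e
  refine ⟨p, q, r, hp, hq, hr, hpq, hqr, hpr, hpS.trans hd, hqS.trans hd, hrS.trans hd, ?_, ?_, ?_⟩
  · rwa [adj_iff_of_not_dvd N e hC hp hq op oq]
  · rwa [adj_iff_of_not_dvd N e hC hq hr oq or']
  · rwa [adj_iff_of_not_dvd N e hC hp hr op or']

theorem goal_of_has3Out.{a, b} {S : Type a} [Group S] (h : Has3Out S) : Goal.{a, b} S :=
  fun _ _ _ N _ ⟨e⟩ hC => Or.inl (h.has3 N e hC)

theorem Goal.congr.{a, b, c} {S : Type a} {T : Type c} [Group S] [Group T] (e : S ≃* T) (h : Goal.{a, b} S) :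
    Goal.{c, b} T :=
  fun G _ _ N _ ⟨e'⟩ hC => h G N ⟨e'.trans e.symm⟩ hC

end Cfsg.Agent.H163.PG
end

-- part: H163/PG/Few
section
set_option linter.all false
open scoped Cfsg.Agent.FastGrp

/-!
# At most four primes: `Has3` or `Cov` holds
-/

set_option autoImplicit false

namespace Cfsg.Agent.H163.PG

/-- a triangle-free graph on four vertices is bipartite (edges = `false`) -/
theorem four_bool : ∀ e01 e02 e03 e12 e13 e23 : Bool,
    (e01 || e02 || e12) = true → (e01 || e03 || e13) = true → (e02 || e03 || e23) = true →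
    (e12 || e13 || e23) = true →
    ∃ x0 x1 x2 x3 : Bool, (x0 = x1 → e01 = true) ∧ (x0 = x2 → e02 = true) ∧ (x0 = x3 → e03 = true) ∧
      (x1 = x2 → e12 = true) ∧ (x1 = x3 → e13 = true) ∧ (x2 = x3 → e23 = true) := by
  rintro (_ | _) (_ | _) (_ | _) (_ | _) (_ | _) (_ | _) <;> decide

theorem has3_or_cov_of_card {G : Type*} [Group G] [Finite G]
    (h : (Nat.card G).primeFactors.card ≤ 4) : Has3 G ∨ Cov G := by
  classical
  by_cases h3 : Has3 G
  · exact Or.inl h3
  right
  have hG : Nat.card G ≠ 0 := Nat.card_pos.ne'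
  have hmem : ∀ p, p ∈ (Nat.card G).primeFactors ↔ p.Prime ∧ p ∣ Nat.card G := fun p =>
    Nat.mem_primeFactors_of_ne_zero hG
  -- an injection into `Fin 4`
  obtain ⟨f, hf⟩ : ∃ f : ℕ → Fin 4, Set.InjOn f (Nat.card G).primeFactors := by
    obtain ⟨g⟩ : Nonempty ((Nat.card G).primeFactors ↪ Fin 4) := by
      apply Function.Embedding.nonempty_of_card_le
      rw [Fintype.card_coe, Fintype.card_fin]
      exact h
    refine ⟨fun p => if hp : p ∈ (Nat.card G).primeFactors then g ⟨p, hp⟩ else 0, ?_⟩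
    intro p hp q hq hpq
    have hp' : p ∈ (Nat.card G).primeFactors := hp
    have hq' : q ∈ (Nat.card G).primeFactors := hq
    simp only [dif_pos hp', dif_pos hq'] at hpq
    exact congrArg Subtype.val (g.injective hpq)
  let e : Fin 4 → Fin 4 → Bool := fun i j =>
    decide (∀ p q, p ∈ (Nat.card G).primeFactors → q ∈ (Nat.card G).primeFactors → f p = i → f q = j → Adj G p q)
  have key : ∀ i j k : Fin 4, i ≠ j → j ≠ k → i ≠ k → (e i j || e i k || e j k) = true := by
    intro i j k hij hjk hik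
    by_contra hcon
    rw [Bool.not_eq_true, Bool.or_eq_false_iff, Bool.or_eq_false_iff] at hcon
    obtain ⟨⟨h1, h2⟩, h4⟩ := hcon
    have h1' := of_decide_eq_false h1
    have h2' := of_decide_eq_false h2
    have h4' := of_decide_eq_false h4
    push Not at h1' h2' h4'
    obtain ⟨p, q, hp, hq, hpi, hqj, hpq⟩ := h1'
    obtain ⟨p', r, hp', hr, hpi', hrk, hpr⟩ := h2'
    obtain ⟨q', r', hq', hr', hqj', hrk', hqr⟩ := h4'
    have e1 : p' = p := hf hp' hp (hpi'.trans hpi.symm)
    have e2 : q' = q := hf hq' hq (hqj'.trans hqj.symm)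
    have e3 : r' = r := hf hr' hr (hrk'.trans hrk.symm)
    subst e1 e2 e3
    apply h3
    refine ⟨p', q', r', ((hmem _).1 hp).1, ((hmem _).1 hq).1, ((hmem _).1 hr).1, ?_, ?_, ?_,
      ((hmem _).1 hp).2, ((hmem _).1 hq).2, ((hmem _).1 hr).2, hpq, hqr, hpr⟩
    · rintro rfl; exact hij (hpi.symm.trans hqj)
    · rintro rfl; exact hjk (hqj.symm.trans hrk)
    · rintro rfl; exact hik (hpi.symm.trans hrk)
  obtain ⟨x0, x1, x2, x3, c01, c02, c03, c12, c13, c23⟩ := four_bool (e 0 1) (e 0 2) (e 0 3) (e 1 2) (e 1 3) (e 2 3)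
    (key 0 1 2 (by decide) (by decide) (by decide)) (key 0 1 3 (by decide) (by decide) (by decide))
    (key 0 2 3 (by decide) (by decide) (by decide)) (key 1 2 3 (by decide) (by decide) (by decide))
  let x : Fin 4 → Bool := ![x0, x1, x2, x3]
  have hx : ∀ i j : Fin 4, i < j → x i = x j → e i j = true := by
    intro i j hij hxx
    fin_cases i <;> fin_cases j <;>
      first
      | exact absurd hij (by decide)
      | exact c01 hxx
      | exact c02 hxx
      | exact c03 hxx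
      | exact c12 hxx
      | exact c13 hxx
      | exact c23 hxx
  refine ⟨fun p => x (f p) = true, fun p q hp hq hpq hpG hqG hX => ?_⟩
  have hpm : p ∈ (Nat.card G).primeFactors := (hmem p).2 ⟨hp, hpG⟩
  have hqm : q ∈ (Nat.card G).primeFactors := (hmem q).2 ⟨hq, hqG⟩
  have hne : f p ≠ f q := fun h => hpq (hf hpm hqm h)
  have hxx : x (f p) = x (f q) := by
    rw [Bool.eq_iff_iff]
    exact hX
  rcases lt_or_gt_of_ne hne with hlt | hlt
  · exact of_decide_eq_true (hx _ _ hlt hxx) p q hpm hqm rfl rfl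
  · exact (of_decide_eq_true (hx _ _ hlt hxx.symm) q p hqm hpm rfl rfl).symm

theorem card_dvd_mul_out {G : Type*} [Group G] [Finite G] {S : Type*} [Group S] (N : Subgroup G) [N.Normal]
    (e : N ≃* S) (hC : Subgroup.centralizer (N : Set G) = ⊥) :
    Nat.card G ∣ Nat.card S * Nat.card (Cfsg.Out S) := by
  have h1 := N.card_mul_index
  rw [← h1, Nat.card_congr e.toEquiv]
  apply Nat.mul_dvd_mul_left
  rw [← ker_toOut N e hC, Subgroup.index_ker]
  exact Subgroup.card_subgroup_dvd_card _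

/-- the goal for groups with at most four primes in `|S| |Out S|` -/
theorem goal_of_card.{a, b} {S : Type a} [Group S] [Finite S]
    (h : (Nat.card S * Nat.card (Cfsg.Out S)).primeFactors.card ≤ 4) : Goal.{a, b} S := by
  intro G _ _ N _ ⟨e⟩ hC
  apply has3_or_cov_of_card
  refine le_trans (Finset.card_le_card ?_) h
  apply Nat.primeFactors_mono (card_dvd_mul_out N e hC)
  have : Finite (MulAut S) := inferInstance
  exact Nat.mul_ne_zero Nat.card_pos.ne' Nat.card_pos.ne'

/-- the goal for groups with at most four primes in an explicit set -/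
theorem goal_of_primes.{a, b} {S : Type a} [Group S] [Finite S] (P : Finset ℕ) (hP : P.card ≤ 4)
    (h1 : ∀ p : ℕ, p.Prime → p ∣ Nat.card S → p ∈ P) (h2 : ∀ p : ℕ, p.Prime → p ∣ Nat.card (Cfsg.Out S) → p ∈ P) :
    Goal.{a, b} S := by
  apply goal_of_card
  refine le_trans (Finset.card_le_card ?_) hP
  intro p hp
  have h3 := Nat.prime_of_mem_primeFactors hp
  rcases (h3.dvd_mul).1 (Nat.dvd_of_mem_primeFactors hp) with h | h
  · exact h1 p h3 h
  · exact h2 p h3 h

end Cfsg.Agent.H163.PG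
end

-- part: H169/ExcNum
section
set_option linter.all false
open scoped Cfsg.Agent.FastGrp

/-!
# Primitive prime divisors and `Has3Out`
-/

set_option autoImplicit false

namespace Cfsg.Agent.H169.ExcNum

open Cfsg.Agent.H163.PG

/-- primitive prime divisors -/
theorem ppd {p f m : ℕ} (hp : p.Prime) (hm : 0 < m) (h3 : 3 ≤ f * m) (h6 : ¬ (p = 2 ∧ f * m = 6)) :
    ∃ r : ℕ, r.Prime ∧ f * m ∣ r - 1 ∧ f * m < r ∧ ¬ r ∣ p ^ f ∧ orderOf ((p ^ f : ℕ) : ZMod r) = m ∧
      ∀ j, r ∣ (p ^ f) ^ j - 1 ↔ m ∣ j := by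
  have hf : 0 < f := Nat.pos_of_ne_zero (by rintro rfl; omega)
  obtain ⟨r, hr, h1, h2, h4⟩ := Cfsg.Agent.Lib.Zsigmondy.exists_primitive hp.two_le (n := f * m) (by omega) (by omega) h6
  have h5 : ∀ j, r ∣ (p ^ f) ^ j - 1 ↔ m ∣ j := by
    intro j
    rw [← pow_mul, h1]
    exact Nat.mul_dvd_mul_iff_left hf
  have h7 : f * m ≤ r - 1 := Nat.le_of_dvd (by have := hr.two_le; omega) h2
  refine ⟨r, hr, h2, by have := hr.two_le; omega, fun h => h4 (hr.dvd_of_dvd_pow h), ?_, h5⟩
  have hq : 1 ≤ p ^ f := Nat.one_le_pow _ _ hp.pos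
  apply Nat.dvd_antisymm
  · rw [← Cfsg.Agent.Lib.Zsigmondy.dvd_pow_sub_one_iff hq]
    exact (h5 m).2 dvd_rfl
  · rw [← h5, Cfsg.Agent.Lib.Zsigmondy.dvd_pow_sub_one_iff hq]

theorem not_dvd_six_mul {r f : ℕ} (hr : r.Prime) (h3 : 3 < r) (hf : 0 < f) (h : f < r) : ¬ r ∣ 6 * f := by
  intro hd
  rcases hr.dvd_mul.1 hd with h1 | h1
  · have h2 : r ∣ 2 * 3 := h1
    rcases hr.dvd_mul.1 h2 with h4 | h4
    · have := Nat.le_of_dvd (by norm_num) h4
      omega
    · have := Nat.le_of_dvd (by norm_num) h4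
      omega
  · exact absurd (Nat.le_of_dvd hf h1) (by omega)

theorem mk_has3Out {S : Type*} [Group S] {r₁ r₂ r₃ f : ℕ} (h1 : r₁.Prime) (h2 : r₂.Prime) (h3 : r₃.Prime)
    (hf : 0 < f) (f1 : f < r₁) (f2 : f < r₂) (f3 : f < r₃) (g1 : 3 < r₁) (g2 : 3 < r₂) (g3 : 3 < r₃)
    (hOut : Nat.card (Cfsg.Out S) ∣ 6 * f) (n12 : r₁ ≠ r₂) (n23 : r₂ ≠ r₃) (n13 : r₁ ≠ r₃)
    (d1 : r₁ ∣ Nat.card S) (d2 : r₂ ∣ Nat.card S) (d3 : r₃ ∣ Nat.card S) (a12 : ¬ Adj S r₁ r₂)
    (a23 : ¬ Adj S r₂ r₃) (a13 : ¬ Adj S r₁ r₃) : Has3Out S :=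
  ⟨r₁, r₂, r₃, h1, h2, h3, n12, n23, n13, d1, d2, d3, a12, a23, a13,
    fun h => not_dvd_six_mul h1 g1 hf f1 (h.trans hOut), fun h => not_dvd_six_mul h2 g2 hf f2 (h.trans hOut),
    fun h => not_dvd_six_mul h3 g3 hf f3 (h.trans hOut)⟩

/-- divisibility of a factor -/
theorem dvd_of_mul {r c N T : ℕ} (hr : r.Prime) (hc : ¬ r ∣ c) (h : c * N = T) (hT : r ∣ T) : r ∣ N := by
  rw [← h] at hT
  exact (hr.dvd_mul.1 hT).resolve_left hc

theorem not_dvd_gcd {r a b : ℕ} (ha : 0 < a) (har : a < r) : ¬ r ∣ Nat.gcd a b := fun h =>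
  absurd (Nat.le_of_dvd ha (h.trans (Nat.gcd_dvd_left a b))) (by omega)

end Cfsg.Agent.H169.ExcNum
end
end
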