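import Mathlib
import Cfsg.Agent.Lib.Zsigmondy
import Cfsg.Agent.Prune
set_option linter.all false
prune_inst 0x7f00000000000000000000000000000000000000000000000000000000000000000000000000000000000000000000000000000000000000000000000000000000000000000000000000000000000000003fffffffffffffffffffffffffffbeffbdffffffff
open scoped Cfsg.Agent.FastGrp

/-!
# Primitive prime divisors (number theory for S2529)
-/

set_option autoImplicit false

namespace Cfsg.Agent.H163.PG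

open Cfsg.Agent.Lib.Zsigmondy

/-- `r` is a prime and `p` has multiplicative order `n` modulo `r` -/
structure Ppd (p n r : ℕ) : Prop where
  prime : r.Prime
  ord : orderOf (p : ZMod r) = n

theorem Ppd.exists {p n : ℕ} (hp : 2 ≤ p) (hn : 3 ≤ n) (h6 : ¬ (p = 2 ∧ n = 6)) : ∃ r, Ppd p n r := by
  obtain ⟨r, h1, h2⟩ := exists_prime_orderOf hp (by omega : 2 ≤ n) (fun h => by omega) h6
  exact ⟨r, h1, h2⟩

theorem Ppd.exists_two {p : ℕ} (hp : 2 ≤ p) (h : ¬ ∃ k, p + 1 = 2 ^ k) : ∃ r, Ppd p 2 r := by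
  obtain ⟨r, h1, h2⟩ := exists_prime_orderOf hp (le_refl 2) (fun _ => h) (by omega)
  exact ⟨r, h1, h2⟩

namespace Ppd

variable {p n r : ℕ}

theorem ne_one (h : Ppd p n r) : r ≠ 1 := h.prime.one_lt.ne'

theorem not_dvd (h : Ppd p n r) (hn : 1 ≤ n) : ¬ r ∣ p := by
  intro hd
  have := Fact.mk h.prime
  have h1 : (p : ZMod r) = 0 := (ZMod.natCast_eq_zero_iff p r).2 hd
  have h2 := h.ord
  rw [h1, orderOf_zero] at h2
  omega

theorem ne (h : Ppd p n r) (hn : 1 ≤ n) : r ≠ p := fun h1 => h.not_dvd hn (h1 ▸ dvd_rfl)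

theorem dvd_pred (h : Ppd p n r) (hn : 1 ≤ n) : n ∣ r - 1 := by
  rw [← h.ord]
  exact orderOf_dvd_pred h.prime (h.not_dvd hn)

theorem lt (h : Ppd p n r) (hn : 1 ≤ n) : n < r := by
  have h1 := Nat.le_of_dvd (by have := h.prime.one_lt; omega) (h.dvd_pred hn)
  have := h.prime.one_lt
  omega

theorem dvd_iff (h : Ppd p n r) (hp : 1 ≤ p) (m : ℕ) : r ∣ p ^ m - 1 ↔ n ∣ m := by
  rw [dvd_pow_sub_one_iff hp, h.ord]

theorem orderOf_pow {f k : ℕ} (h : Ppd p (f * k) r) (hf : 1 ≤ f) : orderOf ((p ^ f : ℕ) : ZMod r) = k := by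
  rw [Nat.cast_pow, orderOf_pow' _ (by omega : f ≠ 0), h.ord, Nat.gcd_mul_right_left, Nat.mul_div_cancel_left _ hf]

theorem pow {f k : ℕ} (h : Ppd p (f * k) r) (hf : 1 ≤ f) : Ppd (p ^ f) k r := ⟨h.prime, h.orderOf_pow hf⟩

/-- a divisor of `p ^ m + 1` -/
theorem dvd_add_one (h : Ppd p n r) (hp : 1 ≤ p) {m : ℕ} (hd : r ∣ p ^ m + 1) : n ∣ 2 * m := by
  rw [← h.dvd_iff hp]
  have h1 : p ^ (2 * m) - 1 = (p ^ m - 1) * (p ^ m + 1) := by
    obtain ⟨k, hk⟩ : ∃ k, p ^ m = k + 1 := ⟨p ^ m - 1, by have := Nat.one_le_pow m p hp; omega⟩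
    rw [two_mul, pow_add, hk, Nat.add_sub_cancel]
    have : (k + 1) * (k + 1) = k * (k + 1 + 1) + 1 := by ring
    omega
  rw [h1]
  exact hd.mul_left _

theorem not_dvd_mul {f : ℕ} (h : Ppd p n r) (hfn : f ≤ n) (hf : 1 ≤ f) : ¬ r ∣ f := by
  intro hd
  have h1 := h.lt (by omega)
  have h2 := Nat.le_of_dvd hf hd
  omega

theorem two_lt (h : Ppd p n r) (hn : 2 ≤ n) : 2 < r := by
  have := h.lt (by omega)
  omega

theorem ne_two (h : Ppd p n r) (hn : 2 ≤ n) : r ≠ 2 := (h.two_lt hn).ne'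

theorem ne_of_ne {m s : ℕ} (h : Ppd p n r) (h' : Ppd p m s) (hnm : n ≠ m) : r ≠ s := by
  rintro rfl
  exact hnm (h.ord.symm.trans h'.ord)

end Ppd

/-- `2 ^ m - 1` and `2 ^ n + 1` facts: `p` odd, `f ≥ 2`: the exceptional case of Zsigmondy for `f = 2` -/
theorem exists_ppd {p f k : ℕ} (hp : 2 ≤ p) (hfk : 3 ≤ f * k) (h6 : ¬ (p = 2 ∧ f * k = 6)) : ∃ r, Ppd p (f * k) r :=
  Ppd.exists hp hfk h6

end Cfsg.Agent.H163.PG
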