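import Mathlib
import Cfsg.Agent.H163.PG.Few_m3
import Cfsg.Agent.S0243
import Cfsg.Agent.S0245
import Cfsg.Agent.S0246
import Cfsg.Agent.S0277
import Cfsg.Agent.S0280
import Cfsg.Agent.S0292
import Cfsg.Agent.S0813
import Cfsg.Agent.S0814
import Cfsg.Agent.S0815
import Cfsg.Agent.S0816
import Cfsg.Prelude.Def_LieTypeDatum
import Cfsg.Agent.ClassicalGeometry.PSL2Basic
import Cfsg.Agent.H163.PG.Prim
import Cfsg.Agent.S2697
import Cfsg.Agent.S2698
import Cfsg.Agent.S2704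
import Cfsg.Agent.Lib.FieldAutCard
import Cfsg.Agent.FastGrp
import Cfsg.Agent.Prune
set_option linter.all false

section
prune_inst 0x7f00000000000000000000000000000000000000000000000000000000000000000000000000000000000000000000000000000000000000000000000000000000000000000000000000000000000000003fffffffffffffffffffffffffffbeffbdffffffff

-- part: H163/PG/Ord
section
set_option linter.all false
open scoped Cfsg.Agent.FastGrp

-- part: H163/PG/AutBase
section
/-!
# Almost simple groups as subgroups of `Aut S`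

`GoalA S`: each `A` with `Inn S ≤ A ≤ Aut S` has `Has3` or `Cov`; `goal_of_goalA : GoalA S → Goal S`.
`not_adj` : the criterion for non-adjacency in `A`.
`conj_of_odd` : an element-level Sylow argument in a dihedral group.
-/

set_option autoImplicit false

universe u v w

namespace Cfsg.Agent.H163.PG

open Cfsg

theorem Has3.congr {G : Type u} {H : Type v} [Group G] [Group H] (e : G ≃* H) (h : Has3 G) : Has3 H := by
  obtain ⟨p, q, r, hp, hq, hr, hpq, hqr, hpr, h1, h2, h3, h4, h5, h6⟩ := h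
  have hc : Nat.card H = Nat.card G := (Nat.card_congr e.toEquiv).symm
  refine ⟨p, q, r, hp, hq, hr, hpq, hqr, hpr, by rwa [hc], by rwa [hc], by rwa [hc], ?_, ?_, ?_⟩
  · rwa [← adj_congr e]
  · rwa [← adj_congr e]
  · rwa [← adj_congr e]

theorem Cov.congr {G : Type u} {H : Type v} [Group G] [Group H] (e : G ≃* H) (h : Cov G) : Cov H := by
  obtain ⟨X, hX⟩ := h
  have hc : Nat.card H = Nat.card G := (Nat.card_congr e.toEquiv).symm
  refine ⟨X, fun p q hp hq hpq hpH hqH hXX => ?_⟩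
  rw [← adj_congr e]
  exact hX p q hp hq hpq (by rwa [← hc]) (by rwa [← hc]) hXX

/-- the conclusion for the subgroups of `Aut S` containing the inner automorphisms -/
def GoalA (S : Type v) [Group S] : Prop :=
  ∀ A : Subgroup (MulAut S), Inn S ≤ A → Has3 A ∨ Cov A

theorem goal_of_goalA.{a, b} {S : Type a} [Group S] (h : GoalA S) : Goal.{a, b} S := by
  intro G _ _ N _ ⟨e⟩ hC
  let f := toAut N e
  have hf : Function.Injective f := toAut_injective N e hC
  have hI : Inn S ≤ f.range := by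
    rintro _ ⟨s, rfl⟩
    obtain ⟨n, rfl⟩ := e.surjective s
    refine ⟨(n : G), ?_⟩
    ext t
    obtain ⟨k, rfl⟩ := e.surjective t
    rw [toAut_apply]
    show _ = e n * e k * (e n)⁻¹
    rw [← map_inv, ← map_mul, ← map_mul]
    congr 1
  have e' : f.range ≃* G := (MonoidHom.ofInjective hf).symm
  rcases h f.range hI with h | h
  · exact Or.inl (h.congr e')
  · exact Or.inr (h.congr e')

section

variable {S : Type v} [Group S]

theorem conj_injective (hZ : Subgroup.center S = ⊥) : Function.Injective (MulAut.conj : S →* MulAut S) := by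
  rw [injective_iff_map_eq_one]
  intro s hs
  have h1 : s ∈ Subgroup.center S := by
    rw [Subgroup.mem_center_iff]
    intro g
    have h2 := DFunLike.congr_fun hs g
    rw [MulAut.conj_apply, MulAut.one_apply] at h2
    exact (mul_inv_eq_iff_eq_mul.1 h2).symm
  rw [hZ] at h1
  exact h1

theorem center_of_simple [IsSimpleGroup S] (hna : ¬ IsMulCommutative S) : Subgroup.center S = ⊥ := by
  rcases IsSimpleGroup.eq_bot_or_eq_top_of_normal (Subgroup.center S) inferInstance with h | h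
  · exact h
  · exact absurd ⟨⟨fun a b => (Subgroup.mem_center_iff.1 (h ▸ Subgroup.mem_top a : a ∈ Subgroup.center S) b).symm⟩⟩ hna

/-- two commuting inner automorphisms -/
theorem adj_of_inner (hZ : Subgroup.center S = ⊥) {p q : ℕ} (hp : p.Prime) (hq : q.Prime) (hpq : p ≠ q)
    {x y : MulAut S} (hx : orderOf x = p) (hy : orderOf y = q) (hxy : x * y = y * x) (hxI : x ∈ Inn S)
    (hyI : y ∈ Inn S) : Adj S p q := by
  obtain ⟨a, rfl⟩ := hxI
  obtain ⟨b, rfl⟩ := hyI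
  have hinj := conj_injective hZ
  refine adj_of_commute hp hq hpq (x := a) (y := b) ?_ ?_ ?_
  · rw [← hx, orderOf_injective _ hinj]
  · rw [← hy, orderOf_injective _ hinj]
  · apply hinj
    rw [map_mul, map_mul]
    exact hxy

/-- the criterion for non-adjacency -/
theorem not_adj (hZ : Subgroup.center S = ⊥) {A : Subgroup (MulAut S)} {p q : ℕ} (hp : p.Prime) (hq : q.Prime)
    (hpq : p ≠ q) (D : Subgroup (MulAut S)) (hD : Inn S ≤ D)
    (hq' : ∀ y ∈ A, orderOf y = q → y ∈ Inn S)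
    (hp' : ∀ x ∈ A, orderOf x = p → x ∈ Inn S ∨ ¬ q ∣ Nat.card ↥(D ⊓ Subgroup.centralizer {x}))
    (h : ¬ Adj S p q) : ¬ Adj A p q := by
  intro hA
  obtain ⟨x, y, hx, hy, hxy⟩ := hA.exists_commute hp hq
  have hx' : orderOf (x : MulAut S) = p := by rw [Subgroup.orderOf_coe, hx]
  have hy' : orderOf (y : MulAut S) = q := by rw [Subgroup.orderOf_coe, hy]
  have hxy' : (x : MulAut S) * y = y * x := congrArg Subtype.val hxy
  have hyI := hq' _ y.2 hy'
  rcases hp' _ x.2 hx' with hxI | hc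
  · exact h (adj_of_inner hZ hp hq hpq hx' hy' hxy' hxI hyI)
  · apply hc
    have hmem : (y : MulAut S) ∈ D ⊓ Subgroup.centralizer {(x : MulAut S)} := by
      refine Subgroup.mem_inf.2 ⟨hD hyI, ?_⟩
      rw [Subgroup.mem_centralizer_iff]
      rintro _ rfl
      exact hxy'
    rw [← hy', ← Subgroup.orderOf_mk _ hmem]
    exact orderOf_dvd_natCard _

/-- the simple form -/
theorem not_adj' (hZ : Subgroup.center S = ⊥) {A : Subgroup (MulAut S)} {p q : ℕ} (hp : p.Prime) (hq : q.Prime)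
    (hpq : p ≠ q) (hp' : ∀ y ∈ A, orderOf y = p → y ∈ Inn S) (hq' : ∀ y ∈ A, orderOf y = q → y ∈ Inn S)
    (h : ¬ Adj S p q) : ¬ Adj A p q :=
  not_adj hZ hp hq hpq ⊤ le_top hq' (fun x hx hxp => Or.inl (hp' x hx hxp)) h

/-- elements of prime order `r` not dividing `|Out S|` are inner -/
theorem inner_of_not_dvd {r : ℕ} (hr : r.Prime) (hO : ¬ r ∣ Nat.card (Cfsg.Out S)) {x : MulAut S}
    (hx : orderOf x = r) : x ∈ Inn S := by
  rw [← QuotientGroup.eq_one_iff, ← orderOf_eq_one_iff]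
  have h1 : orderOf (x : Cfsg.Out S) ∣ r := by
    rw [← hx]
    exact orderOf_dvd_of_pow_eq_one (by rw [← QuotientGroup.mk_pow, pow_orderOf_eq_one]; rfl)
  rcases (Nat.dvd_prime hr).1 h1 with h2 | h2
  · exact h2
  · exfalso
    apply hO
    rw [← h2]
    exact orderOf_dvd_natCard _

/-- elements of prime order `r` of `A`, `r` not dividing `[A : Inn S]` -/
theorem inner_of_not_dvd_relIndex {A : Subgroup (MulAut S)} {r : ℕ} (hr : r.Prime)
    (hO : ¬ r ∣ (Inn S).relIndex A) {x : MulAut S} (hxA : x ∈ A) (hx : orderOf x = r) : x ∈ Inn S := by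
  let x' : A := ⟨x, hxA⟩
  have hn : ((Inn S).subgroupOf A).Normal := inferInstance
  have h1 : orderOf (QuotientGroup.mk x' : A ⧸ (Inn S).subgroupOf A) ∣ r := by
    rw [← hx, ← Subgroup.orderOf_mk x hxA]
    exact orderOf_dvd_of_pow_eq_one (by rw [← QuotientGroup.mk_pow, pow_orderOf_eq_one]; rfl)
  rcases (Nat.dvd_prime hr).1 h1 with h2 | h2
  · rw [orderOf_eq_one_iff, QuotientGroup.eq_one_iff] at h2
    exact h2
  · exfalso
    apply hO
    rw [Subgroup.relIndex, Subgroup.index_eq_card, ← h2]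
    exact orderOf_dvd_natCard _

theorem card_inn (hZ : Subgroup.center S = ⊥) : Nat.card (Inn S) = Nat.card S :=
  (Nat.card_congr (MonoidHom.ofInjective (conj_injective hZ)).toEquiv).symm

theorem card_A (hZ : Subgroup.center S = ⊥) {A : Subgroup (MulAut S)} (hA : Inn S ≤ A) :
    Nat.card A = (Inn S).relIndex A * Nat.card S := by
  rw [← card_inn hZ, ← Subgroup.relIndex_bot_left, ← Subgroup.relIndex_bot_left, mul_comm]
  exact (Subgroup.relIndex_mul_relIndex _ _ _ bot_le hA).symm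

theorem dvd_card_A (hZ : Subgroup.center S = ⊥) {A : Subgroup (MulAut S)} (hA : Inn S ≤ A) {r : ℕ}
    (hr : r ∣ Nat.card S) : r ∣ Nat.card A := by
  rw [card_A hZ hA]
  exact hr.mul_left _

/-- adjacency in `S` gives adjacency in `A` -/
theorem adj_A (hZ : Subgroup.center S = ⊥) {A : Subgroup (MulAut S)} (hA : Inn S ≤ A) {p q : ℕ}
    (h : Adj S p q) : Adj A p q := by
  have h1 : Adj (Inn S) p q := (adj_congr (MonoidHom.ofInjective (conj_injective hZ))).1 h
  exact h1.of_injective (Subgroup.inclusion hA) (Subgroup.inclusion_injective hA)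

/-- If `z ∈ A`, `t` are elements with `z * t⁻¹` of odd order `2 m + 1` inverted by `t` then `t` is conjugate to `z` -/
theorem conj_of_odd {G : Type w} [Group G] {z t : G} (hz : z * z = 1) (ht : t * t = 1) {m : ℕ}
    (h : (z * t) ^ (2 * m + 1) = 1) : (z * t) ^ (m + 1) * t * ((z * t) ^ (m + 1))⁻¹ = z := by
  have ht' : t⁻¹ = t := inv_eq_of_mul_eq_one_right ht
  have hz' : z⁻¹ = z := inv_eq_of_mul_eq_one_right hz
  have h1 : ∀ n : ℕ, t * ((z * t) ^ n)⁻¹ = (z * t) ^ n * t := by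
    intro n
    induction n with
    | zero => simp
    | succ n ih =>
      have h2 : (z * t)⁻¹ = t * z := by rw [_root_.mul_inv_rev, ht', hz']
      calc t * ((z * t) ^ (n + 1))⁻¹ = t * (z * t)⁻¹ * ((z * t) ^ n)⁻¹ := by
            rw [pow_succ, _root_.mul_inv_rev]; group
        _ = z * t * (t * ((z * t) ^ n)⁻¹) := by
            rw [h2, ← mul_assoc t t z, ht, one_mul, ← mul_assoc (z * t) t, mul_assoc z t t, ht, mul_one]
        _ = (z * t) ^ (n + 1) * t := by rw [ih, ← mul_assoc, ← pow_succ']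
  rw [mul_assoc, h1, ← mul_assoc, ← pow_add, show m + 1 + (m + 1) = 2 * m + 1 + 1 by ring, pow_succ, h,
    one_mul, mul_assoc, ht, mul_one]

/-- Let `D / I` be finite of odd order, `z ∈ A` and `t` elements of `D t` with squares in `I`.
Then `A` contains a conjugate of `t` by an element of `D`. -/
theorem exists_conj_mem {G : Type w} [Group G] (I D A : Subgroup G) [I.Normal] (hIA : I ≤ A)
    {k : ℕ} (hk : Odd k) (hDk : ∀ d ∈ D, d ^ k ∈ I) {z t : G} (hzA : z ∈ A) (hz : z * z ∈ I) (ht : t * t ∈ I)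
    (hzt : z * t⁻¹ ∈ D) (hID : I ≤ D) : ∃ g ∈ D, g * t * g⁻¹ ∈ A := by
  obtain ⟨m, rfl⟩ := hk
  have htI : t * t⁻¹⁻¹ ∈ I := by rw [inv_inv]; exact ht
  have hzt' : z * t ∈ D := by
    have h1 : z * t = z * t⁻¹ * (t * t) := by group
    rw [h1]
    exact D.mul_mem hzt (hID ht)
  have h2 := conj_of_odd (z := (z : G ⧸ I)) (t := (t : G ⧸ I)) (m := m)
    (by rw [← QuotientGroup.mk_mul, QuotientGroup.eq_one_iff]; exact hz)
    (by rw [← QuotientGroup.mk_mul, QuotientGroup.eq_one_iff]; exact ht)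
    (by rw [← QuotientGroup.mk_mul, ← QuotientGroup.mk_pow, QuotientGroup.eq_one_iff]; exact hDk _ hzt')
  refine ⟨(z * t) ^ (m + 1), D.pow_mem hzt' _, ?_⟩
  have h3 : (QuotientGroup.mk z : G ⧸ I) = QuotientGroup.mk ((z * t) ^ (m + 1) * t * ((z * t) ^ (m + 1))⁻¹) :=
    h2.symm
  rw [QuotientGroup.eq] at h3
  have h4 := A.mul_mem hzA (hIA h3)
  rwa [mul_inv_cancel_left] at h4

end

end Cfsg.Agent.H163.PG
end

-- part: H163/PG/Ord
section
/-!
# Prime divisors of the orders of the classical groups and of their outer automorphism groups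
-/

set_option autoImplicit false

namespace Cfsg.Agent.H163.PG

open Cfsg Finset

universe u

theorem card_out_mul {S : Type u} [Group S] (hZ : Subgroup.center S = ⊥) :
    Nat.card (Cfsg.Out S) * Nat.card S = Nat.card (MulAut S) := by
  have h1 := Subgroup.index_mul_card (Cfsg.Inn S)
  rw [card_inn hZ] at h1
  exact h1

theorem card_out_of_aut {S : Type u} [Group S] [Finite S] (hZ : Subgroup.center S = ⊥) {n : ℕ}
    (h : Nat.card (MulAut S) = n * Nat.card S) : Nat.card (Cfsg.Out S) = n := by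
  rw [← card_out_mul hZ] at h
  exact Nat.eq_of_mul_eq_mul_right Nat.card_pos h

section PSL

variable {F : Type u} [Field F] [Fintype F] {n : ℕ}

theorem card_psl (hn : 2 ≤ n) : Nat.gcd n (Fintype.card F - 1) * Nat.card (Matrix.ProjectiveSpecialLinearGroup (Fin n) F) =
    Fintype.card F ^ (n * (n - 1) / 2) * ∏ i ∈ range (n - 1), (Fintype.card F ^ (i + 2) - 1) := by
  have h := S0243.result (F := F) rfl n hn
  have hq : 2 ≤ Fintype.card F := Fintype.one_lt_card
  set q := Fintype.card F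
  have h0 : ∏ i : Fin n, (q ^ n - q ^ (i : ℕ)) = q ^ (n * (n - 1) / 2) * ∏ i ∈ range n, (q ^ (i + 1) - 1) := by
    rw [Fin.prod_univ_eq_prod_range (fun i => q ^ n - q ^ i) n]
    have h1 : ∀ i ∈ range n, q ^ n - q ^ i = q ^ i * (q ^ (n - i) - 1) := by
      intro i hi
      rw [mem_range] at hi
      rw [Nat.mul_sub, mul_one, ← pow_add, Nat.add_sub_cancel' hi.le]
    rw [Finset.prod_congr rfl h1, Finset.prod_mul_distrib, Finset.prod_pow_eq_pow_sum, Finset.sum_range_id]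
    congr 1
    rw [← Finset.prod_range_reflect]
    apply Finset.prod_congr rfl
    intro i hi
    rw [mem_range] at hi
    congr 2
    omega
  obtain ⟨m, rfl⟩ := Nat.exists_eq_add_of_le' (show 1 ≤ n by omega)
  rw [h0, Finset.prod_range_succ', zero_add, pow_one, mul_left_comm, ← mul_assoc (q ^ _),
    mul_comm _ (q - 1)] at h
  exact Nat.eq_of_mul_eq_mul_left (show 0 < q - 1 by omega) h

theorem card_pgl (hn : 2 ≤ n) : Nat.card (Matrix.ProjGenLinGroup (Fin n) F) =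
    Nat.gcd n (Fintype.card F - 1) * Nat.card (Matrix.ProjectiveSpecialLinearGroup (Fin n) F) := by
  classical
  have : NeZero n := ⟨by omega⟩
  have h1 := Cfsg.Agent.S0243.result (F := F) rfl n hn
  have h2 : Nat.card (Matrix.ProjGenLinGroup (Fin n) F) * (Fintype.card F - 1) = Nat.card (Matrix.GeneralLinearGroup (Fin n) F) :=
    Cfsg.Agent.ClassicalGeometry.PSL2Basic.card_PGL_mul (Fin n) F
  rw [Matrix.card_GL_field, ← h1] at h2
  have h3 : 0 < Fintype.card F - 1 := by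
    have := Fintype.one_lt_card (α := F)
    omega
  have h4 : Nat.card (Matrix.ProjGenLinGroup (Fin n) F) * (Fintype.card F - 1) =
    (Nat.gcd n (Fintype.card F - 1) * Nat.card (Matrix.ProjectiveSpecialLinearGroup (Fin n) F)) * (Fintype.card F - 1) := by
    rw [h2]; ring
  exact Nat.eq_of_mul_eq_mul_right h3 h4

theorem of_dvd_prod {q N m r : ℕ} (hr : r.Prime) (h : r ∣ q ^ N * ∏ i ∈ range m, (q ^ (i + 2) - 1)) :
    r ∣ q ∨ ∃ k, 2 ≤ k ∧ k ≤ m + 1 ∧ r ∣ q ^ k - 1 := by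
  rcases hr.dvd_mul.1 h with h | h
  · exact Or.inl (hr.dvd_of_dvd_pow h)
  · obtain ⟨i, hi, hd⟩ := (Prime.dvd_finsetProd_iff hr.prime _).1 h
    exact Or.inr ⟨i + 2, by omega, by rw [mem_range] at hi; omega, hd⟩

theorem of_dvd_pgl (hn : 2 ≤ n) {r : ℕ} (hr : r.Prime) (h : r ∣ Nat.card (Matrix.ProjGenLinGroup (Fin n) F)) :
    r ∣ Fintype.card F ∨ ∃ k, 2 ≤ k ∧ k ≤ n ∧ r ∣ Fintype.card F ^ k - 1 := by
  rw [card_pgl hn, card_psl hn] at h
  rcases of_dvd_prod hr h with h | ⟨k, h1, h2, h3⟩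
  · exact Or.inl h
  · exact Or.inr ⟨k, h1, by omega, h3⟩

theorem of_dvd_psl (hn : 2 ≤ n) {r : ℕ} (hr : r.Prime) (h : r ∣ Nat.card (Matrix.ProjectiveSpecialLinearGroup (Fin n) F)) :
    r ∣ Fintype.card F ∨ ∃ k, 2 ≤ k ∧ k ≤ n ∧ r ∣ Fintype.card F ^ k - 1 :=
  of_dvd_pgl hn hr (by rw [card_pgl hn]; exact h.mul_left _)

theorem dvd_pow_sub_one_of_orderOf {q r k : ℕ} (hq : 1 ≤ q) (hk : orderOf (q : ZMod r) = k) {m : ℕ} (h : k ∣ m) :
    r ∣ q ^ m - 1 := by
  rw [Cfsg.Agent.Lib.Zsigmondy.dvd_pow_sub_one_iff hq, hk]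
  exact h

theorem not_dvd_sub_one {q r k : ℕ} (hq : 1 ≤ q) (hk : orderOf (q : ZMod r) = k) (h2 : 2 ≤ k) : ¬ r ∣ q - 1 := by
  intro h
  have h1 : r ∣ q ^ 1 - 1 := by rwa [pow_one]
  rw [Cfsg.Agent.Lib.Zsigmondy.dvd_pow_sub_one_iff hq, hk] at h1
  have := Nat.le_of_dvd one_pos h1
  omega

theorem dvd_psl {r k : ℕ} (hr : r.Prime) (hk : orderOf ((Fintype.card F : ℕ) : ZMod r) = k) (h2 : 2 ≤ k) (hkn : k ≤ n) :
    r ∣ Nat.card (Matrix.ProjectiveSpecialLinearGroup (Fin n) F) := by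
  have hq : 1 ≤ Fintype.card F := Fintype.card_pos
  have h1 : r ∣ Nat.gcd n (Fintype.card F - 1) * Nat.card (Matrix.ProjectiveSpecialLinearGroup (Fin n) F) := by
    rw [card_psl (by omega)]
    refine Dvd.dvd.mul_left ?_ _
    have h3 : k - 2 ∈ range (n - 1) := by rw [mem_range]; omega
    refine dvd_trans ?_ (Finset.dvd_prod_of_mem _ h3)
    rw [Nat.sub_add_cancel h2]
    exact dvd_pow_sub_one_of_orderOf hq hk dvd_rfl
  rcases hr.dvd_mul.1 h1 with h | h
  · exact absurd (h.trans (Nat.gcd_dvd_right _ _)) (not_dvd_sub_one hq hk h2)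
  · exact h

theorem char_dvd_psl {p f : ℕ} (hp : p.Prime) (hf : 1 ≤ f) (hF : Fintype.card F = p ^ f) (hn : 2 ≤ n) :
    p ∣ Nat.card (Matrix.ProjectiveSpecialLinearGroup (Fin n) F) := by
  have h1 : p ∣ Nat.gcd n (Fintype.card F - 1) * Nat.card (Matrix.ProjectiveSpecialLinearGroup (Fin n) F) := by
    rw [card_psl hn, hF, ← pow_mul]
    refine Dvd.dvd.mul_right (dvd_pow_self p ?_) _
    have h3 : 1 ≤ n * (n - 1) / 2 := by
      rw [Nat.le_div_iff_mul_le (by norm_num)]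
      calc 1 * 2 ≤ 2 * 1 := by norm_num
        _ ≤ n * (n - 1) := Nat.mul_le_mul hn (by omega)
    have : 1 ≤ f * (n * (n - 1) / 2) := Nat.mul_pos hf h3
    omega
  rcases hp.dvd_mul.1 h1 with h | h
  · exfalso
    have h2 := h.trans (Nat.gcd_dvd_right _ _)
    rw [hF] at h2
    have h3 : p ∣ p ^ f := dvd_pow_self p (by omega)
    have h4 : 1 ≤ p ^ f := Nat.one_le_pow _ _ hp.pos
    have h5 := (Nat.dvd_sub_iff_right h4 h3).1 h2
    exact hp.one_lt.ne' (Nat.dvd_one.1 h5)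
  · exact h

theorem finite_psl (n : ℕ) : Finite (Matrix.ProjectiveSpecialLinearGroup (Fin n) F) := by
  unfold Matrix.ProjectiveSpecialLinearGroup
  infer_instance

theorem card_out_psl {p f : ℕ} (hp : p.Prime) (hf : 1 ≤ f) (hF : Fintype.card F = p ^ f) (hn : 3 ≤ n)
    (hZ : Subgroup.center (Matrix.ProjectiveSpecialLinearGroup (Fin n) F) = ⊥) :
    Nat.card (Cfsg.Out (Matrix.ProjectiveSpecialLinearGroup (Fin n) F)) = 2 * f * Nat.gcd n (Fintype.card F - 1) := by
  have := Fact.mk hp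
  have := finite_psl (F := F) n
  have h1 := Cfsg.Agent.S0813.result (F := F) p f hf hF n (by omega) (by omega)
  rw [if_neg (by omega), card_pgl (by omega), ← mul_assoc] at h1
  exact card_out_of_aut hZ h1

theorem card_out_psl_two {p f : ℕ} (hp : p.Prime) (hf : 1 ≤ f) (hF : Fintype.card F = p ^ f) (h4 : 4 ≤ Fintype.card F)
    (hZ : Subgroup.center (Matrix.ProjectiveSpecialLinearGroup (Fin 2) F) = ⊥) :
    Nat.card (Cfsg.Out (Matrix.ProjectiveSpecialLinearGroup (Fin 2) F)) = f * Nat.gcd 2 (Fintype.card F - 1) := by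
  have := Fact.mk hp
  have := finite_psl (F := F) 2
  have h1 := Cfsg.Agent.S0813.result (F := F) p f hf hF 2 (by omega) (fun _ => by rw [← hF]; exact h4)
  rw [if_pos rfl, card_pgl (by omega), one_mul, ← mul_assoc] at h1
  exact card_out_of_aut hZ h1

end PSL

section PSp

variable {F : Type u} [Field F] [Fintype F] {n : ℕ}

theorem card_psp (hn : 1 ≤ n) : Nat.gcd 2 (Fintype.card F - 1) * Nat.card (PSp n F) =
    Fintype.card F ^ (n ^ 2) * ∏ i ∈ range n, (Fintype.card F ^ (2 * (i + 1)) - 1) := by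
  have h1 := S0245.result (F := F) rfl n
  have h2 := S0246.result (F := F) rfl n (by omega)
  have h3 := Subgroup.card_eq_card_quotient_mul_card_subgroup
    (Subgroup.center (Matrix.symplecticGroup (Fin n) F))
  rw [h1, h2] at h3
  change Nat.gcd 2 (Fintype.card F - 1) * Nat.card (PSp n F) = _
  rw [mul_comm]
  exact h3.symm

theorem of_dvd_prod' {q N m r : ℕ} (hr : r.Prime) (h : r ∣ q ^ N * ∏ i ∈ range m, (q ^ (2 * (i + 1)) - 1)) :
    r ∣ q ∨ ∃ k, 1 ≤ k ∧ k ≤ m ∧ r ∣ q ^ (2 * k) - 1 := by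
  rcases hr.dvd_mul.1 h with h | h
  · exact Or.inl (hr.dvd_of_dvd_pow h)
  · obtain ⟨i, hi, hd⟩ := (Prime.dvd_finsetProd_iff hr.prime _).1 h
    exact Or.inr ⟨i + 1, by omega, by rw [mem_range] at hi; omega, hd⟩

theorem of_dvd_psp (hn : 1 ≤ n) {r : ℕ} (hr : r.Prime) (h : r ∣ Nat.card (PSp n F)) :
    r ∣ Fintype.card F ∨ ∃ k, 1 ≤ k ∧ k ≤ n ∧ r ∣ Fintype.card F ^ (2 * k) - 1 := by
  apply of_dvd_prod' hr (N := n ^ 2)
  rw [← card_psp hn]
  exact h.mul_left _

theorem dvd_psp (hn : 1 ≤ n) {r k : ℕ} (hr : r.Prime) (hr2 : r ≠ 2) (h1k : 1 ≤ k) (hkn : k ≤ n)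
    (h : r ∣ Fintype.card F ^ (2 * k) - 1) : r ∣ Nat.card (PSp n F) := by
  have h1 : r ∣ Nat.gcd 2 (Fintype.card F - 1) * Nat.card (PSp n F) := by
    rw [card_psp hn]
    refine Dvd.dvd.mul_left ?_ _
    have h3 : k - 1 ∈ range n := by rw [mem_range]; omega
    refine dvd_trans ?_ (Finset.dvd_prod_of_mem _ h3)
    rw [Nat.sub_add_cancel h1k]
    exact h
  rcases hr.dvd_mul.1 h1 with h | h
  · have h2 := h.trans (Nat.gcd_dvd_left _ _)
    exact absurd ((Nat.prime_dvd_prime_iff_eq hr Nat.prime_two).1 h2) hr2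
  · exact h

theorem char_dvd_psp {p f : ℕ} (hp : p.Prime) (hf : 1 ≤ f) (hF : Fintype.card F = p ^ f) (hn : 1 ≤ n) :
    p ∣ Nat.card (PSp n F) := by
  have h1 : p ∣ Nat.gcd 2 (Fintype.card F - 1) * Nat.card (PSp n F) := by
    rw [card_psp hn, hF, ← pow_mul]
    refine Dvd.dvd.mul_right (dvd_pow_self p ?_) _
    have : 1 ≤ f * n ^ 2 := Nat.mul_pos hf (by positivity)
    omega
  rcases hp.dvd_mul.1 h1 with h | h
  · exfalso
    have h2 := h.trans (Nat.gcd_dvd_right _ _)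
    rw [hF] at h2
    have h3 : p ∣ p ^ f := dvd_pow_self p (by omega)
    have h4 : 1 ≤ p ^ f := Nat.one_le_pow _ _ hp.pos
    have h5 := (Nat.dvd_sub_iff_right h4 h3).1 h2
    exact hp.one_lt.ne' (Nat.dvd_one.1 h5)
  · exact h

theorem card_out_psp {p f : ℕ} (hp : p.Prime) (hf : 1 ≤ f) (hF : Fintype.card F = p ^ f) (hn : 2 ≤ n)
    (h3 : n = 2 → 3 ≤ Fintype.card F) (hZ : Subgroup.center (PSp n F) = ⊥) :
    Nat.card (Cfsg.Out (PSp n F)) = (if n = 2 ∧ p = 2 then 2 else 1) * Nat.gcd 2 (p ^ f - 1) * f := by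
  have := Fact.mk hp
  have : Finite (Matrix.symplecticGroup (Fin n) F) := Subtype.finite
  have : Finite (Cfsg.PSp n F) := inferInstance
  exact card_out_of_aut hZ (Cfsg.Agent.S0814.result (F := F) p f hf hF n hn (by rwa [hF] at h3))

end PSp

section OOdd

variable {F : Type u} [Field F] [Fintype F] {n : ℕ}

theorem card_oodd (hodd : Odd (Fintype.card F)) (hn : 3 ≤ n) :
    Nat.card (Cfsg.POmega F (Cfsg.quadFormOdd n F)) = Nat.card (PSp n F) := by
  have h1 := S0292.result (F := F) rfl hodd n hn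
  have h2 := card_psp (F := F) (n := n) (by omega)
  have h3 : Nat.gcd 2 (Fintype.card F - 1) = 2 := by
    apply Nat.gcd_eq_left
    obtain ⟨k, hk⟩ := hodd
    rw [hk]
    exact ⟨k, by omega⟩
  rw [h3, ← h1] at h2
  omega

theorem card_out_oodd {p f : ℕ} (hp : p.Prime) (hf : 1 ≤ f) (hF : Fintype.card F = p ^ f)
    (hodd : Odd (Fintype.card F)) (hn : 3 ≤ n) (hZ : Subgroup.center (Cfsg.POmega F (Cfsg.quadFormOdd n F)) = ⊥) :
    Nat.card (Cfsg.Out (Cfsg.POmega F (Cfsg.quadFormOdd n F))) = 2 * f := by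
  have := Fact.mk hp
  have : Finite (Cfsg.isometryGroup F (Cfsg.quadFormOdd n F)) := inferInstance
  have : Finite (Cfsg.POmega F (Cfsg.quadFormOdd n F)) := inferInstance
  have hpo : Odd p := by
    rw [hF] at hodd
    exact Nat.Odd.of_mul_left (n := p ^ (f - 1)) (by rwa [← pow_succ', Nat.sub_add_cancel hf])
  exact card_out_of_aut hZ (Cfsg.Agent.S0816.result (F := F) p f hf hF hpo n hn)

end OOdd

section PSU

variable {F : Type u} [Field F] [Fintype F] {n q : ℕ}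

theorem of_dvd_prodU {N r : ℕ} (hr : r.Prime)
    (h : r ∣ q ^ N * ∏ i ∈ range n, (if Even i then q ^ (i + 1) + 1 else q ^ (i + 1) - 1)) :
    r ∣ q ∨ ∃ k, 1 ≤ k ∧ k ≤ n ∧ ((Odd k ∧ r ∣ q ^ k + 1) ∨ (Even k ∧ r ∣ q ^ k - 1)) := by
  rcases hr.dvd_mul.1 h with h | h
  · exact Or.inl (hr.dvd_of_dvd_pow h)
  · obtain ⟨i, hi, hd⟩ := (Prime.dvd_finsetProd_iff hr.prime _).1 h
    refine Or.inr ⟨i + 1, by omega, by rw [mem_range] at hi; omega, ?_⟩
    split_ifs at hd with he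
    · exact Or.inl ⟨he.add_one, hd⟩
    · exact Or.inr ⟨(Nat.not_even_iff_odd.1 he).add_one, hd⟩

theorem of_dvd_gu (hF : Fintype.card F = q ^ 2) {r : ℕ} (hr : r.Prime) (h : r ∣ Nat.card (Cfsg.GU n F q)) :
    r ∣ q ∨ ∃ k, 1 ≤ k ∧ k ≤ n ∧ ((Odd k ∧ r ∣ q ^ k + 1) ∨ (Even k ∧ r ∣ q ^ k - 1)) := by
  rw [S0277.result hF n] at h
  exact of_dvd_prodU hr h

theorem of_dvd_pgu (hF : Fintype.card F = q ^ 2) {r : ℕ} (hr : r.Prime) (h : r ∣ Nat.card (Cfsg.PGU n F q)) :
    r ∣ q ∨ ∃ k, 1 ≤ k ∧ k ≤ n ∧ ((Odd k ∧ r ∣ q ^ k + 1) ∨ (Even k ∧ r ∣ q ^ k - 1)) := by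
  apply of_dvd_gu hF hr
  exact h.trans (Subgroup.card_quotient_dvd_card _)

theorem of_dvd_psu (hF : Fintype.card F = q ^ 2) (hn : 2 ≤ n) {r : ℕ} (hr : r.Prime) (h : r ∣ Nat.card (Cfsg.PSU n F q)) :
    r ∣ q ∨ ∃ k, 1 ≤ k ∧ k ≤ n ∧ ((Odd k ∧ r ∣ q ^ k + 1) ∨ (Even k ∧ r ∣ q ^ k - 1)) := by
  apply of_dvd_prodU hr (N := n * (n - 1) / 2)
  rw [← S0280.result hF n hn]
  exact (h.mul_left _).mul_left _

theorem dvd_psu (hF : Fintype.card F = q ^ 2) (hn : 2 ≤ n) {r k : ℕ} (hr : r.Prime) (h1 : ¬ r ∣ q + 1) (hk1 : 1 ≤ k)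
    (hkn : k ≤ n) (h : (Odd k ∧ r ∣ q ^ k + 1) ∨ (Even k ∧ r ∣ q ^ k - 1)) : r ∣ Nat.card (Cfsg.PSU n F q) := by
  have h2 : r ∣ Nat.gcd n (q + 1) * ((q + 1) * Nat.card (Cfsg.PSU n F q)) := by
    rw [S0280.result hF n hn]
    refine Dvd.dvd.mul_left ?_ _
    have h3 : k - 1 ∈ range n := by rw [mem_range]; omega
    refine dvd_trans ?_ (Finset.dvd_prod_of_mem _ h3)
    rw [Nat.sub_add_cancel hk1]
    rcases h with ⟨ho, hd⟩ | ⟨he, hd⟩
    · rw [if_pos (by rw [Nat.even_sub hk1]; simp [Nat.not_even_iff_odd.2 ho])]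
      exact hd
    · rw [if_neg (by rw [Nat.even_sub hk1]; simp [he])]
      exact hd
  rcases hr.dvd_mul.1 h2 with h | h
  · exact absurd (h.trans (Nat.gcd_dvd_right _ _)) h1
  · rcases hr.dvd_mul.1 h with h | h
    · exact absurd h h1
    · exact h

theorem char_dvd_psu {p f : ℕ} (hp : p.Prime) (hf : 1 ≤ f) (hq : q = p ^ f) (hF : Fintype.card F = q ^ 2) (hn : 2 ≤ n) :
    p ∣ Nat.card (Cfsg.PSU n F q) := by
  have h0 : ¬ p ∣ q + 1 := by
    rw [hq]
    intro h
    exact hp.one_lt.ne' (Nat.dvd_one.1 ((Nat.dvd_add_right (dvd_pow_self p (by omega))).1 h))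
  have h2 : p ∣ Nat.gcd n (q + 1) * ((q + 1) * Nat.card (Cfsg.PSU n F q)) := by
    rw [S0280.result hF n hn]
    refine Dvd.dvd.mul_right ?_ _
    rw [hq, ← pow_mul]
    apply dvd_pow_self p
    have h3 : 1 ≤ n * (n - 1) / 2 := by
      rw [Nat.le_div_iff_mul_le (by norm_num)]
      calc 1 * 2 ≤ 2 * 1 := by norm_num
        _ ≤ n * (n - 1) := Nat.mul_le_mul hn (by omega)
    have : 1 ≤ f * (n * (n - 1) / 2) := Nat.mul_pos hf h3
    omega
  rcases hp.dvd_mul.1 h2 with h | h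
  · exact absurd (h.trans (Nat.gcd_dvd_right _ _)) h0
  · rcases hp.dvd_mul.1 h with h | h
    · exact absurd h h0
    · exact h

theorem card_out_psu {p f : ℕ} (hp : p.Prime) (hf : 1 ≤ f) (hq : q = p ^ f) (hF : Fintype.card F = q ^ 2) (hn : 3 ≤ n)
    (h32 : ¬ (n = 3 ∧ q = 2)) (hZ : Subgroup.center (Cfsg.PSU n F q) = ⊥) :
    Nat.card (Cfsg.Out (Cfsg.PSU n F q)) = Nat.gcd n (q + 1) * (2 * f) := by
  have := Fact.mk hp
  have : Finite (Cfsg.PSU n F q) := inferInstance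
  exact card_out_of_aut hZ (Cfsg.Agent.S0815.result (F := F) p f hf hq hF n hn h32)

end PSU

end Cfsg.Agent.H163.PG
end
end

-- part: H163/PG/PslAut
section
set_option linter.all false
open scoped Cfsg.Agent.FastGrp

/-!
# Automorphisms of prime order of `PSL_n(q)`
-/

set_option autoImplicit false

namespace Cfsg.Agent.H163.PG

open Cfsg
open Cfsg.Agent.H966 Cfsg.Agent.H966.PSLAut
open Cfsg.Agent.ClassicalGeometry.AutPSL.Root
open Cfsg.Agent.ClassicalGeometry.AutPSL.Auto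
open Cfsg.Agent.ClassicalGeometry.AutPSL.Main

universe u

section

variable {F : Type u} [Field F] [Fintype F] {n : ℕ}

local notation "PSLn" => Matrix.ProjectiveSpecialLinearGroup (Fin n) F

theorem sq_itr (A : Matrix.GeneralLinearGroup (Fin n) F) (σ : F ≃+* F) :
    (cj A * fld σ * itr) * (cj A * fld σ * itr) = cj (A * sg σ (ctr A)) * fld (σ * σ) := by
  calc (cj A * fld σ * itr) * (cj A * fld σ * itr) = cj A * (fld σ * (itr * cj A)) * (fld σ * itr) := by group
    _ = cj A * cj (sg σ (ctr A)) * fld σ * (itr * (fld σ * itr)) := by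
        rw [itr_mul_cj, ← mul_assoc (fld σ), fld_mul_cj]; group
    _ = cj (A * sg σ (ctr A)) * fld σ * fld σ := by
        rw [fld_mul_itr, ← mul_assoc itr itr, itr_mul_itr, one_mul, map_mul]
    _ = _ := by rw [mul_assoc, ← map_mul]

theorem pow_itr (A : Matrix.GeneralLinearGroup (Fin n) F) (σ : F ≃+* F) (k : ℕ) :
    ∃ (B : Matrix.GeneralLinearGroup (Fin n) F) (τ : F ≃+* F), (cj A * fld σ * itr) ^ (2 * k + 1) = cj B * fld τ * itr := by
  rw [pow_succ, pow_mul, pow_two, sq_itr, pow_eq]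
  refine ⟨nrm (σ * σ) (A * sg σ (ctr A)) k * sg ((σ * σ) ^ k) A, (σ * σ) ^ k * σ, ?_⟩
  rw [map_mul cj, map_mul fld, mul_assoc (cj (nrm _ _ _)), ← mul_assoc (fld ((σ * σ) ^ k)),
    ← mul_assoc (fld ((σ * σ) ^ k)), fld_mul_cj]
  group

/-- the types of the automorphisms of prime order of `PSL_n(q)` -/
theorem psl_types (hn : 2 ≤ n) {x : MulAut PSLn} {s : ℕ} (hs : s.Prime) (hx : orderOf x = s) :
    x ∈ inndiagPSL n F ∨ (∃ σ : F ≃+* F, orderOf σ = s ∧ IsConjUnder (inndiagPSL n F) (lift (fld σ)) x) ∨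
      (s = 2 ∧ IsGraphAutClassPSL x) ∨ (s = 2 ∧ ∃ σ : F ≃+* F, orderOf σ = 2 ∧
        IsConjUnder (inndiagPSL n F) (lift (fld σ * itr)) x ∧ IsGraphFieldAutClassPSL x) := by
  have : Nontrivial (Fin n) := Fin.nontrivial_iff_two_le.2 hn
  obtain ⟨p, hp⟩ := CharP.exists F
  have hpp : Fact p.Prime := ⟨CharP.char_is_prime F p⟩
  have hxs : x ^ s = 1 := by rw [← hx, pow_orderOf_eq_one]
  by_cases hx' : ∃ (A : Matrix.GeneralLinearGroup (Fin n) F) (σ : F ≃+* F), x = lift (cj A * fld σ)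
  · obtain ⟨A, σ, rfl⟩ := hx'
    by_cases hσ : σ = 1
    · left
      rw [hσ, map_one, mul_one]
      exact mem_inndiag.2 ⟨A, rfl⟩
    · right; left
      have h1 : lift (cj (nrm σ A s) * fld (σ ^ s)) = lift (fld (1 : F ≃+* F)) := by
        rw [← pow_eq, map_pow, hxs, map_one, map_one]
      have h2 := (injective_aux h1).2
      have hord : orderOf σ = s := by
        rcases (Nat.dvd_prime hs).1 (orderOf_dvd_of_pow_eq_one h2) with h1 | h1
        · exact absurd (orderOf_eq_one_iff.1 h1) hσ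
        · exact h1
      refine ⟨σ, hord, ?_⟩
      have h3 := S2697.std hn (σ := σ) hσ hs (δ := lift (cj A)) (mem_inndiag.2 ⟨A, rfl⟩)
        (by rw [← map_mul]; exact hxs)
      rw [map_mul]
      exact h3
  · have h3 : 3 ≤ n := by
      by_contra hcon
      obtain rfl : n = 2 := by omega
      obtain ⟨A, σ, h⟩ := surj_two p x
      exact hx' ⟨A, σ, h⟩
    have hcard : 3 ≤ Fintype.card (Fin n) := by rwa [Fintype.card_fin]
    obtain ⟨A, σ, rfl⟩ : ∃ (A : Matrix.GeneralLinearGroup (Fin n) F) (σ : F ≃+* F), x = lift (cj A * fld σ * itr) := by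
      rcases surj_three p h3 x with h | h
      · exact absurd h hx'
      · exact h
    have hs2 : s = 2 := by
      rcases hs.eq_two_or_odd' with h | ⟨k, hk⟩
      · exact h
      · exfalso
        obtain ⟨B, τ, hB⟩ := pow_itr A σ k
        rw [hk, ← map_pow, hB] at hxs
        exact not_graph hcard (hxs.trans (by rw [map_one, map_one] : (1 : MulAut PSLn) = lift (fld (1 : F ≃+* F))))
    subst hs2
    have hsq : lift (cj (A * sg σ (ctr A)) * fld (σ * σ)) = lift (fld (1 : F ≃+* F)) := by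
      rw [← sq_itr, map_mul, ← pow_two, hxs, map_one, map_one]
    have hσσ : σ * σ = 1 := (injective_aux hsq).2
    right; right
    by_cases hσ : σ = 1
    · left
      refine ⟨rfl, h3, lift (cj A), lift itr, ⟨A, inner_iff.2 rfl⟩, invTranspose_iff.2 rfl, ?_⟩
      rw [hσ, map_one, mul_one, map_mul]
    · right
      have hσ2 : orderOf σ = 2 := by
        rcases (Nat.dvd_prime Nat.prime_two).1 (orderOf_dvd_of_pow_eq_one ((pow_two σ).trans hσσ)) with h1 | h1
        · exact absurd (orderOf_eq_one_iff.1 h1) hσ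
        · exact h1
      have hord : orderOf (lift (fld σ * itr) : MulAut PSLn) = 2 := by
        have h1 : (lift (fld σ * itr) : MulAut PSLn) ^ 2 = 1 := by
          have h2 := sq_itr (n := n) (1 : Matrix.GeneralLinearGroup (Fin n) F) σ
          rw [map_one, one_mul] at h2
          rw [← map_pow, pow_two, h2, hσσ, map_one, mul_one, map_mul]
          have h4 : ctr (1 : Matrix.GeneralLinearGroup (Fin n) F) = 1 := by
            apply Units.ext
            rw [coe_ctr, inv_one, Units.val_one, Matrix.transpose_one]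
          rw [h4, map_one, map_one, map_one, mul_one, map_one]
        rcases (Nat.dvd_prime Nat.prime_two).1 (orderOf_dvd_of_pow_eq_one h1) with h2 | h2
        · exfalso
          rw [orderOf_eq_one_iff] at h2
          apply not_graph hcard (C := 1) (σ := σ) (τ := 1)
          rw [map_one, one_mul, h2, map_one, map_one]
        · exact h2
      have h5 := S2697.graphField h3 (σ := σ) hσ Nat.prime_two hord (δ := lift (cj A)) (mem_inndiag.2 ⟨A, rfl⟩)
        (by rw [← map_mul, ← mul_assoc]; exact hxs)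
      rw [← map_mul, ← mul_assoc] at h5
      refine ⟨rfl, σ, hσ2, h5, h3, ?_⟩
      obtain ⟨h, -, hh⟩ := h5
      refine ⟨h⁻¹, lift (fld σ), lift itr, σ, hσ, std_iff.2 rfl, invTranspose_iff.2 rfl, ?_⟩
      rw [hh, map_mul]
      group

/-- the centraliser of a field automorphism of prime order -/
theorem psl_cent_field {p f : ℕ} (hp : p.Prime) (hf : 1 ≤ f) (hF : Fintype.card F = p ^ f) (hn : 2 ≤ n)
    (h4 : n = 2 → 4 ≤ Fintype.card F) {x : MulAut PSLn} {s : ℕ} (hs : s.Prime) (hx : orderOf x = s)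
    {σ : F ≃+* F} (hσ : orderOf σ = s) (hσx : IsConjUnder (inndiagPSL n F) (lift (fld σ)) x) :
    s ∣ f ∧ ∀ {N r : ℕ}, Ppd p N r → 1 ≤ N → r ∣ Nat.card ↥(inndiagPSL n F ⊓ Subgroup.centralizer {x}) →
      ∃ k, 2 ≤ k ∧ k ≤ n ∧ N ∣ (f / s) * k := by
  have := Fact.mk hp
  have hsf : s ∣ f := by
    rw [← hσ, ← Lib.FieldAutCard.card_ringAut (p := p) hf hF]
    exact orderOf_dvd_natCard σ
  have hfs : f / s ≠ 0 := by
    have := Nat.div_pos (Nat.le_of_dvd hf hsf) hs.pos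
    omega
  refine ⟨hsf, fun {N r} hr hN hd => ?_⟩
  have hx' : IsFieldAutClassPSL x := by
    obtain ⟨h, -, hh⟩ := hσx
    refine ⟨h⁻¹, σ, ?_, ?_⟩
    · rintro rfl
      have : orderOf (1 : F ≃+* F) = s := hσ
      rw [orderOf_one] at this
      exact hs.one_lt.ne this
    · rw [std_iff, hh]
      group
  have hfin : Fintype (GaloisField p (f / s)) := Fintype.ofFinite _
  have hcard : Fintype.card (GaloisField p (f / s)) = p ^ (f / s) := by
    rw [← Nat.card_eq_fintype_card]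
    exact GaloisField.card p (f / s) hfs
  obtain ⟨-, ⟨e⟩, -⟩ := S2698.result (F := F) hF hf hn h4 x hx' hs hx (GaloisField p (f / s)) hcard
  rw [Nat.card_congr e.toEquiv] at hd
  rcases of_dvd_pgl hn hr.prime hd with h | ⟨k, h1, h2, h3⟩
  · rw [hcard] at h
    exact absurd (hr.prime.dvd_of_dvd_pow h) (hr.not_dvd hN)
  · rw [hcard, ← pow_mul, hr.dvd_iff hp.pos] at h3
    exact ⟨k, h1, h2, h3⟩

/-- the centraliser of a graph-field involution -/
theorem psl_cent_graphField {p f : ℕ} (hp : p.Prime) (hf : 1 ≤ f) (hF : Fintype.card F = p ^ f) (hn : 3 ≤ n)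
    {x : MulAut PSLn} (hx : orderOf x = 2) (hx' : IsGraphFieldAutClassPSL x) :
    Even f ∧ ∀ {r : ℕ}, r.Prime → r ≠ p → r ∣ Nat.card ↥(inndiagPSL n F ⊓ Subgroup.centralizer {x}) →
      ∃ k, 1 ≤ k ∧ k ≤ n ∧ ((Odd k ∧ r ∣ (p ^ (f / 2)) ^ k + 1) ∨ (Even k ∧ r ∣ (p ^ (f / 2)) ^ k - 1)) := by
  have := Fact.mk hp
  obtain ⟨hfe, -, ⟨e⟩, -⟩ := S2704.result (F := F) hF hf hn x hx' hx
  refine ⟨hfe, fun {r} hr hrp hd => ?_⟩
  rw [Nat.card_congr e.toEquiv] at hd
  have hF2 : Fintype.card F = (p ^ (f / 2)) ^ 2 := by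
    rw [hF, ← pow_mul, Nat.div_mul_cancel hfe.two_dvd]
  rcases of_dvd_pgu hF2 hr hd with h | h
  · exact absurd ((Nat.prime_dvd_prime_iff_eq hr hp).1 (hr.dvd_of_dvd_pow h)) hrp
  · exact h

/-- `r ∣ q ^ k + 1`, `k` odd or `r ∣ q ^ k - 1`, `k` even: conditions on the order of `q` -/
theorem order_cases {q r m k : ℕ} (hq : 1 ≤ q) (hr : r.Prime) (hr2 : r ≠ 2) (hm : orderOf (q : ZMod r) = m)
    (h : (Odd k ∧ r ∣ q ^ k + 1) ∨ (Even k ∧ r ∣ q ^ k - 1)) : (Odd k ∧ m ∣ 2 * k ∧ ¬ m ∣ k) ∨ (Even k ∧ m ∣ k) := by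
  have hP : Ppd q m r := ⟨hr, hm⟩
  rcases h with ⟨ho, h⟩ | ⟨he, h⟩
  · left
    refine ⟨ho, hP.dvd_add_one hq h, fun hmk => ?_⟩
    have h1 := (hP.dvd_iff hq k).2 hmk
    have h2 : q ^ k + 1 = (q ^ k - 1) + 2 := by
      have := Nat.one_le_pow k q hq
      omega
    rw [h2] at h
    exact hr2 ((Nat.prime_dvd_prime_iff_eq hr Nat.prime_two).1 ((Nat.dvd_add_right h1).1 h))
  · exact Or.inr ⟨he, (hP.dvd_iff hq k).1 h⟩

end

end Cfsg.Agent.H163.PG
end
end
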