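import Mathlib
import Cfsg.Agent.CpAutON.Gen
import Cfsg.Agent.H960.Fix
import Cfsg.Agent.HN.Count
import Cfsg.Agent.H149.Sp.Quot
import Cfsg.Agent.H149.Sp.Conway
import Cfsg.Agent.H393.Iso.He
import Cfsg.Agent.H729.PairHS
import Cfsg.Agent.H661.SporHN
import Cfsg.Agent.HN.Distinct
import Cfsg.Agent.FastGrp
import Cfsg.Agent.Prune
set_option linter.all false
prune_inst 0x7f00000000000000000000000000000000000000000000000000000000000000000000000000000000000000000000000000000000000000000000000000000000000000000000000000000000000000003fffffffffffffffffffffffffffbeffbdffffffff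
open scoped Cfsg.Agent.FastGrp

-- part: H163/PG/HNTool
section
/-!
# Fixed points of elements of prime order on cosets, from the suborbits (S2529, Harada–Norton)
-/

set_option autoImplicit false

namespace Cfsg.Agent.H163.PG

open Subgroup
open Cfsg.Agent.H149.Sp.Eng (Nm Cm mem_nm)

section

variable {G : Type*} [Group G] [Finite G] {X : Type*} [MulAction G X] {p : ℕ} [hp : Fact p.Prime] {x : G}

/-- fixed points in an orbit -/
theorem fix_orbit_dvd (hx : orderOf x = p) (h2 : ¬ p ^ 2 ∣ Nat.card G) (b : X) :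
    {a | a ∈ MulAction.orbit G b ∧ x • a = a}.ncard = 0 ∨
      p * {a | a ∈ MulAction.orbit G b ∧ x • a = a}.ncard ∣ Nat.card (Nm x) := by
  set F : Set X := {a | a ∈ MulAction.orbit G b ∧ x • a = a} with hF
  rcases Set.eq_empty_or_nonempty F with h0 | ⟨a0, ha0⟩
  · left; rw [h0, Set.ncard_empty]
  right
  have h2' : ∀ a : X, ¬ p ^ 2 ∣ Nat.card (MulAction.stabilizer G a) := fun a h =>
    h2 (h.trans (card_subgroup_dvd_card _))
  have hFo : F = MulAction.orbit (Nm x) a0 := by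
    ext a
    constructor
    · intro ha
      obtain ⟨g, hg⟩ : ∃ g : G, g • a0 = a := by
        have h3 := MulAction.orbit_eq_iff.2 ha0.1
        have h4 := ha.1
        rw [← h3] at h4
        exact h4
      have h1 : x ∈ MulAction.stabilizer G a := ha.2
      have h3 : g * x * g⁻¹ ∈ MulAction.stabilizer G a := by
        rw [MulAction.mem_stabilizer_iff, ← hg, ← mul_smul]
        have : g * x * g⁻¹ * g = g * x := by group
        rw [this, mul_smul, ha0.2]
      have o1 : orderOf (⟨x, h1⟩ : MulAction.stabilizer G a) = p := by rw [Subgroup.orderOf_mk, hx]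
      have o2 : orderOf (⟨g * x * g⁻¹, h3⟩ : MulAction.stabilizer G a) = p := by
        rw [Subgroup.orderOf_mk, ← hx]
        exact (MulAut.conj g).orderOf_eq x
      obtain ⟨s, hs⟩ := CpAutON.Gen.conj_into (h2' a) o2 o1
      refine ⟨⟨(s : G) * g, ?_⟩, ?_⟩
      · apply H149.Sp.Eng.mem_nm_of
        obtain ⟨k, hk⟩ := mem_zpowers_iff.1 hs
        have h3 := congrArg Subtype.val hk
        rw [mem_zpowers_iff]
        refine ⟨k, ?_⟩
        have h4 : x ^ k = (s : G) * (g * x * g⁻¹) * (s : G)⁻¹ := by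
          have h5 : (((⟨x, h1⟩ : MulAction.stabilizer G a) ^ k : MulAction.stabilizer G a) : G) = x ^ k := by
            rw [Subgroup.coe_zpow]
          rw [← h5, hk]
          rfl
        rw [h4]
        group
      · show ((s : G) * g) • a0 = a
        rw [mul_smul, hg]
        exact s.2
    · rintro ⟨n, rfl⟩
      refine ⟨?_, ?_⟩
      · show (n : G) • a0 ∈ MulAction.orbit G b
        have h3 := MulAction.orbit_eq_iff.2 ha0.1
        rw [← h3]
        exact ⟨(n : G), rfl⟩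
      · show x • (n : G) • a0 = (n : G) • a0
        have h3 : (n : G)⁻¹ * x * (n : G) ∈ zpowers x := by
          have h4 := (mem_nm.1 ((Nm x).inv_mem n.2) x).1 (mem_zpowers x)
          rwa [inv_inv] at h4
        have h5 : zpowers x ≤ MulAction.stabilizer G a0 := by
          rw [zpowers_le]
          exact ha0.2
        have h6 := h5 h3
        rw [MulAction.mem_stabilizer_iff] at h6
        calc x • (n : G) • a0 = (n : G) • (((n : G)⁻¹ * x * (n : G)) • a0) := by
              rw [← mul_smul, ← mul_smul]; congr 1; group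
          _ = (n : G) • a0 := by rw [h6]
  have hxN : x ∈ Nm x := H149.Sp.Eng.mem_nm_of (by
    rw [mul_inv_cancel_right]; exact mem_zpowers x)
  have h3 : (MulAction.stabilizer (Nm x) a0).index * Nat.card (MulAction.stabilizer (Nm x) a0) = Nat.card (Nm x) :=
    (MulAction.stabilizer (Nm x) a0).index_mul_card
  rw [MulAction.index_stabilizer, ← hFo] at h3
  have h4 : p ∣ Nat.card (MulAction.stabilizer (Nm x) a0) := by
    have h5 : (⟨x, hxN⟩ : Nm x) ∈ MulAction.stabilizer (Nm x) a0 := ha0.2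
    have h6 : orderOf (⟨⟨x, hxN⟩, h5⟩ : MulAction.stabilizer (Nm x) a0) = p := by
      rw [Subgroup.orderOf_mk, Subgroup.orderOf_mk, hx]
    rw [← h6]
    exact _root_.orderOf_dvd_natCard _
  rw [← h3, mul_comm p]
  exact Nat.mul_dvd_mul_left _ h4

omit [Finite G] in
/-- the fixed points of an element of prime order on an invariant finite set -/
theorem fix_set_modEq (hx : x ^ p = 1) {S : Set X} (hS : S.Finite) (hinv : ∀ a ∈ S, x • a ∈ S) :
    S.ncard ≡ {a | a ∈ S ∧ x • a = a}.ncard [MOD p] := by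
  have := hS.to_subtype
  let f : S → S := fun a => ⟨x • a, hinv a a.2⟩
  have hf : ∀ (k : ℕ) (a : S), ((f^[k] a : S) : X) = x ^ k • (a : X) := by
    intro k
    induction k with
    | zero => intro g; simp
    | succ k ih =>
      intro g
      rw [Function.iterate_succ_apply', pow_succ', mul_smul, ← ih]
  have h := H960.card_modEq_fixed f (r := p) (by
    funext a
    apply Subtype.ext
    rw [hf, hx, one_smul, id])
  have e : Nat.card {a : S // f a = a} = {a | a ∈ S ∧ x • a = a}.ncard := by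
    show _ = Nat.card {a | a ∈ S ∧ x • a = a}
    refine Nat.card_congr ⟨fun a => ⟨a.1.1, a.1.2, congrArg Subtype.val a.2⟩, fun a => ⟨⟨a.1, a.2.1⟩, Subtype.ext a.2.2⟩,
      fun a => rfl, fun a => rfl⟩
  rw [e] at h
  exact h

theorem fix_orbit_modEq (hx : orderOf x = p) (b : X) :
    (MulAction.orbit G b).ncard ≡ {a | a ∈ MulAction.orbit G b ∧ x • a = a}.ncard [MOD p] := by
  refine fix_set_modEq (by rw [← hx, pow_orderOf_eq_one]) (Set.finite_range _) fun a ha => ?_
  obtain ⟨g, rfl⟩ := ha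
  exact ⟨x * g, mul_smul x g b⟩

/-- no fixed points on orbits of length divisible by `p` -/
theorem fix_orbit_zero (hx : orderOf x = p) (h2 : ¬ p ^ 2 ∣ Nat.card G) {b : X}
    (hb : p ∣ (MulAction.orbit G b).ncard) : {a | a ∈ MulAction.orbit G b ∧ x • a = a}.ncard = 0 := by
  rw [Set.ncard_eq_zero (Set.Finite.subset (Set.finite_range fun g : G => g • b) fun a ha => ha.1),
    Set.eq_empty_iff_forall_notMem]
  rintro a ⟨ha, hxa⟩
  rw [← MulAction.orbit_eq_iff.2 ha, ← MulAction.index_stabilizer] at hb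
  apply h2
  rw [← (MulAction.stabilizer G a).index_mul_card, pow_two]
  refine Nat.mul_dvd_mul hb ?_
  have hxa' : x ∈ MulAction.stabilizer G a := hxa
  have h6 : orderOf (⟨x, hxa'⟩ : MulAction.stabilizer G a) = p := by rw [Subgroup.orderOf_mk, hx]
  rw [← h6]
  exact _root_.orderOf_dvd_natCard _

end

section

open Cfsg.Agent.HN.Count MulAction

variable {G : Type*} [Group G] (H : Subgroup G) {m : ℕ} (w : Fin m → G)

/-- the number of fixed points on the cosets -/
theorem fix_sum [Finite G] (hdis : ∀ i j, w j ∈ DoubleCoset.doubleCoset (w i) (H : Set G) (H : Set G) → i = j)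
    (hcov : ∀ g, ∃ i, g ∈ DoubleCoset.doubleCoset (w i) (H : Set G) (H : Set G)) (x : H) :
    {a : G ⧸ H | x • a = a}.ncard = ∑ i, {a | a ∈ orbit H (pnt H (w i)) ∧ x • a = a}.ncard := by
  have e : (Σ i, {a | a ∈ orbit H (pnt H (w i)) ∧ x • a = a}) ≃ {a : G ⧸ H | x • a = a} := by
    refine Equiv.ofBijective (fun y => ⟨(y.2 : G ⧸ H), y.2.2.2⟩) ⟨?_, ?_⟩
    · rintro ⟨i, y, hy⟩ ⟨j, z, hz⟩ hxy
      have hxy' : y = z := congrArg Subtype.val hxy
      subst hxy'
      have hij : i = j := by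
        apply hdis
        rw [← mem_orbit_iff']
        have e1 := orbit_eq_iff.2 hy.1
        have e2 := orbit_eq_iff.2 hz.1
        rw [← e1, e2]
        exact mem_orbit_self _
      subst hij
      rfl
    · rintro ⟨q, hq⟩
      obtain ⟨g, rfl⟩ := QuotientGroup.mk_surjective q
      obtain ⟨i, hi⟩ := hcov g⁻¹
      rw [← mem_orbit_iff'] at hi
      have h1 : pnt H g⁻¹ = (g : G ⧸ H) := by
        change (((g⁻¹)⁻¹ : G) : G ⧸ H) = _
        rw [inv_inv]
      rw [h1] at hi
      exact ⟨⟨i, ⟨_, hi, hq⟩⟩, rfl⟩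
  show Nat.card _ = _
  rw [← Nat.card_congr e, Nat.card_sigma]
  rfl

end

end Cfsg.Agent.H163.PG
end

-- part: H163/PG/HN
section
/-!
# `HN`: the primes `7, 11, 19` are pairwise non-adjacent (S2529)
-/

set_option autoImplicit false

namespace Cfsg.Agent.H163.PG.HNR

open Cfsg Subgroup Cfsg.Agent.H393.Iso
open Cfsg.Agent.H149.Sp.Eng (Nm Cm mem_nm card_nm odd_cm index_nm_mod mem_nm_of)
open Cfsg.Agent.HN.NormalH (H)
open Cfsg.Agent.HN.DCover (w9)
open Cfsg.Agent.HN.Count (pnt sz)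

/-! ### The Higman–Sims group -/

theorem na_hs7 {S : Type*} [Group S] [Finite S] (h : Spor.IsoHS S) : NA 7 S := by
  obtain ⟨D⟩ := KFacts.HS.exists_mod h
  intro x t hx ht hxt
  exact H729.PairHS.noTwo D t x ht hx hxt.symm

theorem hs_not_adj {p q : ℕ} (hp : H149.Sp.P5 p) (hq : H149.Sp.P5 q) (hpq : p < q) {S : Type*} [Group S]
    (h : Spor.IsoHS S) : ¬ Adj S p q := by
  obtain ⟨e⟩ := h
  let f := (Subgroup.inclusion (inf_le_left.trans inf_le_left : Spor.HS ≤ Co0)).comp e.toMonoidHom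
  have hf : Function.Injective f :=
    (Subgroup.inclusion_injective (inf_le_left.trans inf_le_left : Spor.HS ≤ Co0)).comp e.injective
  by_cases h57 : p = 5 ∧ q = 7
  · obtain ⟨rfl, rfl⟩ := h57
    exact H149.Sp.not_adj_57 f hf H149.Sp.leechV_ne (fun g => (e g).2.1.2)
  · exact H149.Sp.not_adj_of_emb f hf hp hq hpq h57

theorem card_nm_hs {S : Type*} [Group S] [Finite S] (h : Spor.IsoHS S) {v : S} (hv : orderOf v = 7) :
    Nat.card (Nm v) = 42 := by
  have hcard := NotCT.Orders.hs h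
  have f7 : Fact (Nat.Prime 7) := ⟨by norm_num⟩
  have f2 : Fact (Nat.Prime 2) := ⟨by norm_num⟩
  have h77 : ¬ 7 ^ 2 ∣ Nat.card S := by rw [hcard]; norm_num
  have hna := na_hs7 h
  obtain ⟨k, hk, hN⟩ := card_nm (s := 7) (by norm_num) hv
  have hodd := odd_cm hna hv
  have hmod := index_nm_mod (s := 7) (by norm_num) h77 hv
  have h1 : 7 ∣ Nat.card (Cm v) := by
    have h0 : orderOf (⟨v, mem_centralizer_singleton_iff.2 rfl⟩ : Cm v) = 7 := by rw [← hv, ← orderOf_coe]
    exact h0 ▸ _root_.orderOf_dvd_natCard _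
  obtain ⟨c, hc⟩ := h1
  have hidx := (Nm v).card_mul_index
  rw [hN, hc, hcard] at hidx
  rw [hc] at hodd
  have hco : Odd c := (Nat.odd_mul.1 hodd).2
  -- the primes of `c`
  have hcp : ∀ t : ℕ, t.Prime → t ≠ 7 → ¬ Adj S t 7 → ¬ t ∣ c := by
    intro t ht ht7 hadj htc
    have hft : Fact t.Prime := ⟨ht⟩
    have h2 : t ∣ Nat.card (Cm v) := hc ▸ htc.mul_left 7
    obtain ⟨y, hy⟩ := exists_prime_orderOf_dvd_card' t h2
    apply hadj
    refine ⟨(y : S) * v, ?_⟩
    have h4 : Commute (y : S) v := mem_centralizer_singleton_iff.1 y.2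
    rw [h4.orderOf_mul_eq_mul_orderOf_of_coprime, orderOf_coe, hy, hv]
    rw [orderOf_coe, hy, hv]
    exact (Nat.coprime_primes ht (by norm_num)).2 ht7
  have h5 := hcp 5 (by norm_num) (by norm_num) (hs_not_adj H149.Sp.p5 H149.Sp.p7 (by norm_num) h)
  have h11 := hcp 11 (by norm_num) (by norm_num)
    (fun hadj => hs_not_adj H149.Sp.p7 H149.Sp.p11 (by norm_num) h hadj.symm)
  have hc9 : c ∣ 9 := by
    have hd : c ∣ 704000 * 9 := ⟨k * (Nm v).index, by
      have : 7 * (c * (k * (Nm v).index)) = 7 * (704000 * 9) := by rw [← mul_assoc, ← mul_assoc, hidx]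
      omega⟩
    refine Nat.Coprime.dvd_of_dvd_mul_left ?_ hd
    rw [show 704000 = 2 ^ 9 * (5 ^ 3 * 11) by norm_num]
    refine Nat.Coprime.mul_right (Nat.Coprime.pow_right _ (Nat.coprime_two_right.2 hco)) (Nat.Coprime.mul_right
      (Nat.Coprime.pow_right _ ?_) ?_)
    · exact ((Nat.Prime.coprime_iff_not_dvd (by norm_num)).2 h5).symm
    · exact ((Nat.Prime.coprime_iff_not_dvd (by norm_num)).2 h11).symm
  -- a real element
  have hk2 : 2 ∣ k := by
    obtain ⟨e⟩ : Nonempty (S ≃* Spor.HS) := h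
    obtain ⟨x, t, hx, ⟨j, hj⟩, ht⟩ := H661.Spor.HS.hasReal.map_equiv e.symm
    have hidx' : (Nm x).index = (Nm v).index := by
      rw [H149.Sp.Eng.index_nm (by norm_num) h77 hx, H149.Sp.Eng.index_nm (by norm_num) h77 hv]
    have hcN : Nat.card (Nm x) = Nat.card (Nm v) := by
      have e1 := (Nm x).card_mul_index
      have e2 := (Nm v).card_mul_index
      rw [hidx', ← e2] at e1
      exact Nat.eq_of_mul_eq_mul_right (Nat.pos_of_ne_zero (by
        intro h0
        rw [h0] at hmod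
        norm_num at hmod)) e1
    have htN : t ∈ Nm x := mem_nm_of (by rw [ht]; exact inv_mem (mem_zpowers x))
    have hj0 : j ≠ 0 := by
      rintro rfl
      rw [pow_zero, orderOf_eq_one_iff] at hj
      rw [hj, one_mul, inv_one, mul_one] at ht
      have h3 : x ^ 2 = 1 := by
        rw [pow_two]
        exact (mul_eq_one_iff_eq_inv).2 ht
      have h4 := orderOf_dvd_of_pow_eq_one h3
      rw [hx] at h4
      norm_num at h4
    have h3 : 2 ∣ Nat.card (Nm x) := by
      have h4 : orderOf (⟨t, htN⟩ : Nm x) = 2 ^ j := by rw [Subgroup.orderOf_mk, hj]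
      exact (dvd_pow_self 2 hj0).trans (h4 ▸ _root_.orderOf_dvd_natCard _)
    rw [hcN, hN, hc] at h3
    exact (Nat.Prime.dvd_mul Nat.prime_two).1 h3 |>.resolve_left (by
      rw [← even_iff_two_dvd, Nat.not_even_iff_odd]; exact hodd)
  rw [hN, hc]
  have hk' : k ∣ 6 := hk
  have hkle : k ≤ 6 := Nat.le_of_dvd (by norm_num) hk'
  have hcle : c ≤ 9 := Nat.le_of_dvd (by norm_num) hc9
  interval_cases k <;> first | (exfalso; omega) | skip
  all_goals
    interval_cases c <;> first | (exfalso; (clear * - h5 hmod hidx hc9; omega)) | omega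

/-! ### The subgroup `2.HS.2` -/

theorem nm_subgroupOf {A : Type*} [Group A] (K : Subgroup A) (u : K) : Nm u = (Nm (u : A)).subgroupOf K := by
  ext x
  rw [mem_subgroupOf, mem_nm, mem_nm]
  have key : ∀ y : K, y ∈ zpowers u ↔ (y : A) ∈ zpowers (u : A) := by
    intro y
    rw [mem_zpowers_iff, mem_zpowers_iff]
    constructor
    · rintro ⟨n, hn⟩
      exact ⟨n, congrArg Subtype.val hn⟩
    · rintro ⟨n, hn⟩
      exact ⟨n, Subtype.ext hn⟩
  constructor
  · intro h y
    constructor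
    · intro hy
      have h5 : y ∈ K := by
        obtain ⟨n, rfl⟩ := mem_zpowers_iff.1 hy
        exact K.zpow_mem u.2 n
      exact (key _).1 ((h ⟨y, h5⟩).1 ((key ⟨y, h5⟩).2 hy))
    · intro hy
      have h5 : (x : A) * y * (x : A)⁻¹ ∈ K := by
        obtain ⟨n, hn⟩ := mem_zpowers_iff.1 hy
        rw [← hn]
        exact K.zpow_mem u.2 n
      have h6 : y ∈ K := by
        have h7 := K.mul_mem (K.mul_mem (K.inv_mem x.2) h5) x.2
        have h8 : (x : A)⁻¹ * (x * y * (x : A)⁻¹) * x = y := by group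
        rwa [h8] at h7
      exact (key ⟨y, h6⟩).1 ((h ⟨y, h6⟩).2 ((key _).2 hy))
  · intro h y
    rw [key, key]
    exact h y

theorem card_subgroupOf {A : Type*} [Group A] (K L : Subgroup A) :
    Nat.card (K.subgroupOf L) = Nat.card (K ⊓ L : Subgroup A) := by
  rw [← subgroupOf_map_subtype, Subgroup.card_map_of_injective (subtype_injective _)]

theorem card_nm_dvd_of_normal {A : Type*} [Group A] [Finite A] (K : Subgroup A) [K.Normal] {u : K} :
    Nat.card (Nm (u : A)) ∣ K.index * Nat.card (Nm u) := by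
  have h1 := (K.subgroupOf (Nm (u : A))).index_mul_card
  have h2 : (K.subgroupOf (Nm (u : A))).index ∣ K.index := relIndex_dvd_index_of_normal K (Nm (u : A))
  have h3 : Nat.card (K.subgroupOf (Nm (u : A))) = Nat.card (Nm u) := by
    rw [nm_subgroupOf, card_subgroupOf, card_subgroupOf, inf_comm]
  rw [← h1, h3]
  exact Nat.mul_dvd_mul_right h2 _

theorem card_nm_dvd_of_hom {A B : Type*} [Group A] [Group B] [Finite A] [Finite B] (f : A →* B) (u : A) :
    Nat.card (Nm u) ∣ Nat.card f.ker * Nat.card (Nm (f u)) := by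
  let g := f.comp (Nm u).subtype
  have h1 : Nat.card g.ker * Nat.card g.range = Nat.card (Nm u) := by
    rw [← Subgroup.index_ker, Subgroup.card_mul_index]
  rw [← h1]
  refine Nat.mul_dvd_mul ?_ ?_
  · have h2 : Nat.card (g.ker.map (Nm u).subtype) = Nat.card g.ker := Subgroup.card_map_of_injective (subtype_injective _)
    rw [← h2]
    apply Subgroup.card_dvd_of_le
    rintro _ ⟨a, ha, rfl⟩
    exact ha
  · apply Subgroup.card_dvd_of_le
    rintro _ ⟨a, rfl⟩
    apply mem_nm_of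
    have h2 : (a : A) * u * (a : A)⁻¹ ∈ zpowers u := (mem_nm.1 a.2 u).1 (mem_zpowers u)
    obtain ⟨n, hn⟩ := mem_zpowers_iff.1 h2
    refine mem_zpowers_iff.2 ⟨n, ?_⟩
    rw [← map_zpow, hn, map_mul, map_mul, map_inv]
    rfl

instance finite_HN : Finite Spor.HN := HN.Index.finite_HN

theorem exists_cover : ∃ K : Subgroup H, K.Normal ∧ K.index = 2 ∧ IsNonsplitDoubleCover K Spor.HS :=
  HN.NormalH.exists_double_cover_H HN.H0Basic.finite_H0 HN.H0Basic.card_H0_le HN.XSq.hx_sq_ne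

/-- elements of odd prime order of `2.HS.2` in `HS` -/
theorem exists_hs : ∃ (K : Subgroup H) (f : K →* Spor.HS), K.Normal ∧ K.index = 2 ∧ Nat.card f.ker = 2 := by
  obtain ⟨K, hK, hi, h2, ⟨e⟩, -⟩ := exists_cover
  refine ⟨K, e.toMonoidHom.comp (QuotientGroup.mk' (Subgroup.center K)), hK, hi, ?_⟩
  rw [← h2]
  congr 1
  have h3 : (e.toMonoidHom.comp (QuotientGroup.mk' (Subgroup.center K))).ker = Subgroup.center K := by
    rw [MonoidHom.ker_comp_of_injective]
    · exact QuotientGroup.ker_mk' _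
    · exact e.injective
  rw [h3]

theorem orderOf_odd_of_hom {A B : Type*} [Group A] [Group B] [Finite A] (f : A →* B) (hf : Nat.card f.ker = 2) {x : A}
    {r : ℕ} (hr : r.Prime) (hr2 : r ≠ 2) (hx : orderOf x = r) : orderOf (f x) = r := by
  rcases (Nat.dvd_prime hr).1 (orderOf_dvd_of_pow_eq_one (show (f x) ^ r = 1 by
    rw [← map_pow, ← hx, pow_orderOf_eq_one, map_one])) with h | h
  · exfalso
    rw [orderOf_eq_one_iff] at h
    have h1 : x ∈ f.ker := h
    have h2 : orderOf x ∣ 2 := by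
      rw [← hf, ← Subgroup.orderOf_mk x h1]
      exact _root_.orderOf_dvd_natCard _
    rw [hx] at h2
    exact hr2 ((Nat.prime_dvd_prime_iff_eq hr Nat.prime_two).1 h2)
  · exact h

theorem mem_of_odd {A : Type*} [Group A] {K : Subgroup A} (hK : K.index = 2) {x : A} {r : ℕ} (hr : Odd r)
    (hx : orderOf x = r) : x ∈ K := by
  obtain ⟨m, hm⟩ := hr
  have h1 : x = (x ^ 2) ^ (m + 1) := by
    rw [← pow_mul, show 2 * (m + 1) = orderOf x + 1 by rw [hx, hm]; ring, pow_succ, pow_orderOf_eq_one, one_mul]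
  rw [h1]
  exact K.pow_mem (Subgroup.sq_mem_of_index_two hK x) _

instance finite_H : Finite H := HN.Index.finite_H

/-- `|N(7)|` in `2.HS.2` divides 168 -/
theorem card_nm_seven {x : H} (hx : orderOf x = 7) : Nat.card (Nm x) ∣ 168 := by
  obtain ⟨K, f, hK, hi, hf⟩ := exists_hs
  have hxK : x ∈ K := mem_of_odd hi (by decide) hx
  have hfin : Finite Spor.HS := by
    have := NotCT.Orders.hs (⟨MulEquiv.refl _⟩ : Spor.IsoHS Spor.HS)
    exact Nat.finite_of_card_ne_zero (by rw [this]; norm_num)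
  have h1 := card_nm_dvd_of_normal K (u := ⟨x, hxK⟩)
  have h2 := card_nm_dvd_of_hom f ⟨x, hxK⟩
  rw [card_nm_hs ⟨MulEquiv.refl _⟩ (orderOf_odd_of_hom f hf (r := 7) (by norm_num) (by norm_num)
    (by rw [Subgroup.orderOf_mk, hx])), hf] at h2
  rw [hi] at h1
  exact h1.trans (Nat.mul_dvd_mul_left 2 h2)

/-! ### The suborbits -/

theorem sizes : sz H (w9 0) = 1 ∧ sz H (w9 1) = 1408 ∧ sz H (w9 2) = 2200 ∧ sz H (w9 3) = 35200 ∧
    sz H (w9 4) = 123200 ∧ sz H (w9 5) = 354816 ∧ sz H (w9 6) = 739200 ∧ sz H (w9 7) = 5775 ∧ sz H (w9 8) = 277200 := by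
  have hdis := HN.Distinct.hdis
  have s0 : sz H (w9 0) = 1 := by rw [HN.Index.w9_zero]; exact HN.Count.sz_one H
  have s1 : sz H (w9 0) * 1408 = sz H (w9 1) * 1 := HN.Index.balance hdis 0 1
  have s2 : sz H (w9 1) * 50 = sz H (w9 2) * 32 := HN.Index.balance hdis 1 2
  have s3 : sz H (w9 1) * 450 = sz H (w9 3) * 18 := HN.Index.balance hdis 1 3
  have s4 : sz H (w9 1) * 350 = sz H (w9 4) * 4 := HN.Index.balance hdis 1 4
  have s5 : sz H (w9 1) * 504 = sz H (w9 5) * 2 := HN.Index.balance hdis 1 5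
  have s6 : sz H (w9 2) * 672 = sz H (w9 6) * 2 := HN.Index.balance hdis 2 6
  have s7 : sz H (w9 6) * 10 = sz H (w9 7) * 1280 := HN.Index.balance hdis 6 7
  have s8 : sz H (w9 6) * 240 = sz H (w9 8) * 640 := HN.Index.balance hdis 6 8
  generalize sz H (w9 0) = a0 at *
  generalize sz H (w9 1) = a1 at *
  generalize sz H (w9 2) = a2 at *
  generalize sz H (w9 3) = a3 at *
  generalize sz H (w9 4) = a4 at *
  generalize sz H (w9 5) = a5 at *
  generalize sz H (w9 6) = a6 at *
  generalize sz H (w9 7) = a7 at *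
  generalize sz H (w9 8) = a8 at *
  refine ⟨s0, ?_, ?_, ?_, ?_, ?_, ?_, ?_, ?_⟩ <;> (clear * - s0 s1 s2 s3 s4 s5 s6 s7 s8; solve | lia | omega)

/-- the number of fixed points in a suborbit -/
noncomputable def fx (x : H) (i : Fin 9) : ℕ := {a | a ∈ MulAction.orbit H (pnt H (w9 i)) ∧ x • a = a}.ncard

theorem fix_eq (x : H) : {a : Spor.HN ⧸ H | x • a = a}.ncard =
    fx x 0 + (fx x 1 + (fx x 2 + (fx x 3 + (fx x 4 + (fx x 5 + (fx x 6 + (fx x 7 + (fx x 8 + 0)))))))) := by
  rw [fix_sum H w9 HN.Distinct.hdis HN.Index.covers x]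
  exact HN.Index.sum9 (fx x)

theorem card_H : Nat.card H = 177408000 := HN.Index.card_H

theorem index_H : H.index = 1539000 := HN.Index.index_H HN.Distinct.hdis

theorem fx_zero {x : H} {p : ℕ} [hp : Fact p.Prime] (hx : orderOf x = p) (h2 : ¬ p ^ 2 ∣ Nat.card H) {i : Fin 9} {n : ℕ}
    (hn : sz H (w9 i) = n) (hd : p ∣ n) : fx x i = 0 :=
  fix_orbit_zero hx h2 (by
    show p ∣ Nat.card _
    rw [← hn] at hd
    exact hd)

theorem fx_mod {x : H} {p : ℕ} [hp : Fact p.Prime] (hx : orderOf x = p) {i : Fin 9} {n : ℕ}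
    (hn : sz H (w9 i) = n) : n ≡ fx x i [MOD p] := by
  rw [← hn]
  exact fix_orbit_modEq hx _

theorem fx_one (x : H) : fx x 0 ≤ 1 := by
  have h1 : sz H (w9 0) = 1 := sizes.1
  have h2 : (MulAction.orbit H (pnt H (w9 0))).ncard = 1 := h1
  rw [← h2]
  exact Set.ncard_le_ncard (fun a ha => ha.1) (Set.finite_range _)

/-- an element of order 7 fixes 8 or 15 points -/
theorem fix_seven {x : H} (hx : orderOf x = 7) : {a : Spor.HN ⧸ H | x • a = a}.ncard = 8 ∨
    {a : Spor.HN ⧸ H | x • a = a}.ncard = 15 := by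
  have f7 : Fact (Nat.Prime 7) := ⟨by norm_num⟩
  have h77 : ¬ 7 ^ 2 ∣ Nat.card H := by rw [card_H]; norm_num
  obtain ⟨s0, s1, s2, s3, s4, s5, s6, s7, s8⟩ := sizes
  have hN := card_nm_seven hx
  have hdv : ∀ i, fx x i = 0 ∨ fx x i ∣ 24 := by
    intro i
    rcases fix_orbit_dvd hx h77 (pnt H (w9 i)) with h | h
    · exact Or.inl h
    · right
      have h3 := h.trans hN
      rw [show 168 = 7 * 24 by norm_num] at h3
      exact Nat.dvd_of_mul_dvd_mul_left (by norm_num) h3
  rw [fix_eq, fx_zero hx h77 s4 (by norm_num), fx_zero hx h77 s5 (by norm_num), fx_zero hx h77 s6 (by norm_num),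
    fx_zero hx h77 s7 (by norm_num), fx_zero hx h77 s8 (by norm_num)]
  have m0 := fx_mod hx s0
  have m1 := fx_mod hx s1
  have m2 := fx_mod hx s2
  have m3 := fx_mod hx s3
  have d1 := hdv 1
  have d2 := hdv 2
  have d3 := hdv 3
  have l0 := fx_one x
  generalize fx x 0 = a0 at *
  generalize fx x 1 = a1 at *
  generalize fx x 2 = a2 at *
  generalize fx x 3 = a3 at *
  unfold Nat.ModEq at m0 m1 m2 m3
  have le24 : ∀ a : ℕ, a = 0 ∨ a ∣ 24 → a ≤ 24 := by
    rintro a (h | h)
    · omega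
    · exact Nat.le_of_dvd (by norm_num) h
  have e0 : a0 = 1 := by omega
  have e2 : a2 = 2 := by
    have := le24 a2 d2
    rcases d2 with d2 | d2
    · omega
    · interval_cases a2 <;> (clear * - m2 d2; omega)
  have e3 : a3 = 4 := by
    have := le24 a3 d3
    rcases d3 with d3 | d3
    · omega
    · interval_cases a3 <;> (clear * - m3 d3; omega)
  have e1 : a1 = 1 ∨ a1 = 8 := by
    have := le24 a1 d1
    rcases d1 with d1 | d1
    · omega
    · interval_cases a1 <;> (clear * - m1 d1; omega)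
  (clear * - m0 l0 e2 e3 e1; omega)

/-- an element of order 11 fixes one point -/
theorem fix_eleven {x : H} (hx : orderOf x = 11) : {a : Spor.HN ⧸ H | x • a = a}.ncard = 1 := by
  have f11 : Fact (Nat.Prime 11) := ⟨by norm_num⟩
  have h77 : ¬ 11 ^ 2 ∣ Nat.card H := by rw [card_H]; norm_num
  obtain ⟨s0, s1, s2, s3, s4, s5, s6, s7, s8⟩ := sizes
  rw [fix_eq, fx_zero hx h77 s1 (by norm_num), fx_zero hx h77 s2 (by norm_num), fx_zero hx h77 s3 (by norm_num),
    fx_zero hx h77 s4 (by norm_num), fx_zero hx h77 s5 (by norm_num), fx_zero hx h77 s6 (by norm_num),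
    fx_zero hx h77 s7 (by norm_num), fx_zero hx h77 s8 (by norm_num)]
  have m0 := fx_mod hx s0
  have l0 := fx_one x
  generalize fx x 0 = a0 at *
  unfold Nat.ModEq at m0
  omega

/-! ### Non-adjacency -/

/-- an element of order `p` with `[G:H] ≡ 1 mod p` has a conjugate in `H` -/
theorem exists_conj {p : ℕ} [hp : Fact p.Prime] {x : Spor.HN} (hx : orderOf x = p) (hm : ¬ p ∣ 1539000) :
    ∃ g : Spor.HN, g⁻¹ * x * g ∈ H := by
  have h1 := fix_set_modEq (X := Spor.HN ⧸ H) (x := x) (p := p) (by rw [← hx, pow_orderOf_eq_one]) (S := Set.univ)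
    (Set.toFinite _) (fun _ _ => Set.mem_univ _)
  have h2 : (Set.univ : Set (Spor.HN ⧸ H)).ncard = 1539000 := by
    rw [Set.ncard_univ, ← index_H]
    rfl
  rw [h2] at h1
  have h3 : ({a : Spor.HN ⧸ H | a ∈ Set.univ ∧ x • a = a}.Nonempty :) := by
    rw [Set.nonempty_iff_ne_empty]
    intro h0
    rw [h0, Set.ncard_empty] at h1
    exact hm ((Nat.modEq_zero_iff_dvd).1 h1)
  obtain ⟨a, -, ha⟩ := h3
  obtain ⟨g, rfl⟩ := QuotientGroup.mk_surjective a
  refine ⟨g, ?_⟩
  have h4 : ((x * g : Spor.HN) : Spor.HN ⧸ H) = (g : Spor.HN ⧸ H) := ha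
  rw [eq_comm, QuotientGroup.eq] at h4
  rw [mul_assoc]
  exact h4

theorem not_fix_nineteen {y : Spor.HN} (hy : orderOf y = 19) (a : Spor.HN ⧸ H) : y • a ≠ a := by
  intro ha
  obtain ⟨g, rfl⟩ := QuotientGroup.mk_surjective a
  have h4 : ((y * g : Spor.HN) : Spor.HN ⧸ H) = (g : Spor.HN ⧸ H) := ha
  rw [eq_comm, QuotientGroup.eq, ← mul_assoc] at h4
  have h5 : orderOf (g⁻¹ * y * g) = 19 := by
    have e : g⁻¹ * y * g = MulAut.conj g⁻¹ y := by rw [MulAut.conj_apply, inv_inv]
    rw [e, MulEquiv.orderOf_eq, hy]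
  have h6 : 19 ∣ Nat.card H := by
    rw [← h5, ← Subgroup.orderOf_mk _ h4]
    exact _root_.orderOf_dvd_natCard _
  rw [card_H] at h6
  norm_num at h6

theorem comm_conj' {G : Type*} [Group G] {x y : G} (g : G) (h : x * y = y * x) :
    (g⁻¹ * x * g) * (g⁻¹ * y * g) = (g⁻¹ * y * g) * (g⁻¹ * x * g) := by
  calc (g⁻¹ * x * g) * (g⁻¹ * y * g) = g⁻¹ * (x * y) * g := by group
    _ = g⁻¹ * (y * x) * g := by rw [h]
    _ = _ := by group

theorem orderOf_conj' {G : Type*} [Group G] (x g : G) : orderOf (g⁻¹ * x * g) = orderOf x := by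
  have e : g⁻¹ * x * g = MulAut.conj g⁻¹ x := by rw [MulAut.conj_apply, inv_inv]
  rw [e, MulEquiv.orderOf_eq]

theorem not_adj_7_19 : ¬ Adj Spor.HN 7 19 := by
  have f7 : Fact (Nat.Prime 7) := ⟨by norm_num⟩
  have f19 : Fact (Nat.Prime 19) := ⟨by norm_num⟩
  refine H149.Sp.not_adj_of_not_comm (by norm_num) (by norm_num) ?_
  intro x y hx hy hxy
  obtain ⟨g, hg⟩ := exists_conj hx (by norm_num)
  have hx' := orderOf_conj' x g
  have hy' := orderOf_conj' y g
  have hxy' := comm_conj' g hxy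
  generalize g⁻¹ * x * g = u at *
  generalize g⁻¹ * y * g = v at *
  rw [hx] at hx'
  rw [hy] at hy'
  have h1 := fix_set_modEq (X := Spor.HN ⧸ H) (x := v) (p := 19) (by rw [← hy', pow_orderOf_eq_one])
    (S := {a : Spor.HN ⧸ H | (⟨u, hg⟩ : H) • a = a}) (Set.toFinite _) (fun a ha => by
      have ha' : u • a = a := ha
      show u • v • a = v • a
      rw [← mul_smul, hxy', mul_smul, ha'])
  have h2 : {a | a ∈ {a : Spor.HN ⧸ H | (⟨u, hg⟩ : H) • a = a} ∧ v • a = a} = ∅ := by
    rw [Set.eq_empty_iff_forall_notMem]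
    rintro a ⟨-, ha⟩
    exact not_fix_nineteen hy' a ha
  rw [h2, Set.ncard_empty] at h1
  have hu : orderOf (⟨u, hg⟩ : H) = 7 := by rw [Subgroup.orderOf_mk, hx']
  rcases fix_seven hu with h3 | h3 <;> rw [h3] at h1 <;> exact absurd h1 (by decide)

theorem mem_H_of_comm {x y : Spor.HN} (hxH : x ∈ H) (hx : orderOf x = 11) (hxy : x * y = y * x) : y ∈ H := by
  have hu : orderOf (⟨x, hxH⟩ : H) = 11 := by rw [Subgroup.orderOf_mk, hx]
  have h1 := fix_eleven hu
  rw [Set.ncard_eq_one] at h1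
  obtain ⟨a, ha⟩ := h1
  have h2 : ((1 : Spor.HN) : Spor.HN ⧸ H) ∈ {a : Spor.HN ⧸ H | (⟨x, hxH⟩ : H) • a = a} := by
    show ((x * 1 : Spor.HN) : Spor.HN ⧸ H) = ((1 : Spor.HN) : Spor.HN ⧸ H)
    rw [eq_comm, QuotientGroup.eq, inv_one, one_mul, mul_one]
    exact hxH
  have h3 : ((y : Spor.HN) : Spor.HN ⧸ H) ∈ {a : Spor.HN ⧸ H | (⟨x, hxH⟩ : H) • a = a} := by
    show ((x * y : Spor.HN) : Spor.HN ⧸ H) = ((y : Spor.HN) : Spor.HN ⧸ H)
    rw [eq_comm, QuotientGroup.eq, hxy, ← mul_assoc, inv_mul_cancel, one_mul]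
    exact hxH
  rw [ha, Set.mem_singleton_iff] at h2 h3
  have h4 : ((1 : Spor.HN) : Spor.HN ⧸ H) = ((y : Spor.HN) : Spor.HN ⧸ H) := h2.trans h3.symm
  rw [QuotientGroup.eq, inv_one, one_mul] at h4
  exact h4

theorem not_adj_11_19 : ¬ Adj Spor.HN 11 19 := by
  have f11 : Fact (Nat.Prime 11) := ⟨by norm_num⟩
  refine H149.Sp.not_adj_of_not_comm (by norm_num) (by norm_num) ?_
  intro x y hx hy hxy
  obtain ⟨g, hg⟩ := exists_conj hx (by norm_num)
  have h1 := mem_H_of_comm hg (by rw [orderOf_conj', hx]) (comm_conj' g hxy)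
  have h6 : 19 ∣ Nat.card H := by
    rw [← hy, ← orderOf_conj' y g, ← Subgroup.orderOf_mk _ h1]
    exact _root_.orderOf_dvd_natCard _
  rw [card_H] at h6
  norm_num at h6

end Cfsg.Agent.H163.PG.HNR

namespace Cfsg.Agent.H163.PG

open Cfsg

universe u

end Cfsg.Agent.H163.PG
end
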